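import Cfsg.Prelude.Def_CaseTheorems
import Cfsg.Prelude.Def_SubgroupEmbedding
import Cfsg.Agent.Fusion.Transfer
import Cfsg.Agent.Blocks.PPart
import Cfsg.Agent.Invol.Isolated

/-!
# Extremely closed abelian p-subgroups: structure of the subgroup generated by two conjugates
-/

namespace Cfsg.Agent.ExtClosedTwo

open Subgroup
open scoped Pointwise
open Cfsg.Agent

universe u

variable {G : Type u} [Group G] [Finite G] {H : Subgroup G} {p : ℕ} [hp : Fact p.Prime]

omit [Finite G] in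
theorem eq_one_of_dvd {x : G} {m k : ℕ} (hm : ¬ p ∣ m) (h1 : orderOf x ∣ m)
    (h2 : orderOf x ∣ p ^ k) : x = 1 :=
  orderOf_eq_one_iff.1
    (Nat.eq_one_of_dvd_coprimes ((hp.out.coprime_iff_not_dvd.2 hm).pow_left k).symm h1 h2)

omit [Finite G] in
theorem inf_eq_bot_of_odd (h2 : IsPGroup p H) {R : Subgroup G} (hR : ¬ p ∣ Nat.card R) :
    R ⊓ H = ⊥ := by
  rw [eq_bot_iff]
  intro x hx
  obtain ⟨k, hk⟩ := IsPGroup.iff_orderOf.1 h2 ⟨x, hx.2⟩
  rw [orderOf_mk] at hk
  refine mem_bot.2 (eq_one_of_dvd hR ?_ (dvd_of_eq hk))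
  exact orderOf_mk x hx.1 ▸ orderOf_dvd_natCard (⟨x, hx.1⟩ : R)

theorem mem_normalizer_of_forall {H : Subgroup G} {n : G} (h : ∀ x ∈ H, n * x * n⁻¹ ∈ H) :
    n ∈ normalizer (H : Set G) := by
  rw [mem_normalizer_iff_map_conj_eq]
  refine eq_of_le_of_card_ge ?_ (le_of_eq (card_map_of_injective (MulAut.conj n).injective).symm)
  rintro _ ⟨x, hx, rfl⟩
  exact h x hx

/-- For every `a` the subgroup `⟨H, H^a⟩` is `R H` with `R` of odd order, and `H^a = H^v` for some
`v ∈ R`. -/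
theorem exists_twist (h2 : IsPGroup p H) (hab : IsMulCommutative H)
    (hec : Cfsg.IsExtremelyClosed H) (a : G) :
    ∃ (R : Subgroup G) (v : G), v ∈ R ∧ v⁻¹ * a ∈ normalizer (H : Set G) ∧ ¬ p ∣ Nat.card R ∧
      H ≤ normalizer (R : Set G) ∧ R ⊓ normalizer (H : Set G) = ⊥ ∧
      R ≤ H ⊔ H.map (MulAut.conj a).toMonoidHom := by
  set K := H ⊔ H.map (MulAut.conj a).toMonoidHom with hK
  set HK := H.subgroupOf K with hHK
  have hHKp : IsPGroup p HK := h2.comap_subtype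
  obtain ⟨P, hP⟩ := hHKp.exists_le_sylow
  have hnorm : ∀ x : K, x ∈ normalizer (HK : Set K) → x ∈ HK := by
    intro x hx
    refine mem_subgroupOf.2 ?_
    have hxN : (x : G) ∈ normalizer (H : Set G) := by
      refine mem_normalizer_of_forall fun y hy => ?_
      have := (mem_normalizer_iff.1 hx ⟨y, le_sup_left (a := H) hy⟩).1 (mem_subgroupOf.2 hy)
      exact mem_subgroupOf.1 this
    exact (hec a).le ⟨x.2, hxN⟩
  have hPeq : (P : Subgroup K) = HK := by
    refine le_antisymm ?_ hP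
    have : Group.IsNilpotent P := P.isPGroup'.isNilpotent
    by_contra hne
    have hlt : HK.subgroupOf P < ⊤ := lt_top_iff_ne_top.2 fun h => hne (subgroupOf_eq_top.1 h)
    obtain ⟨x, hx, hx'⟩ := SetLike.exists_of_lt
      (Group.normalizerCondition_of_isNilpotent (HK.subgroupOf P) hlt)
    refine hx' (mem_subgroupOf.2 (hnorm x ?_))
    refine mem_normalizer_of_forall fun y hy => ?_
    exact mem_subgroupOf.1 ((mem_normalizer_iff.1 hx ⟨y, hP hy⟩).1 (mem_subgroupOf.2 hy))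
  have hNC : normalizer ((P : Subgroup K) : Set K) ≤ centralizer ((P : Subgroup K) : Set K) := by
    intro x hx
    rw [hPeq] at hx ⊢
    refine mem_centralizer_iff.2 fun y hy => Subtype.ext ?_
    exact congrArg (Subtype.val : H → G) (hab.is_comm.comm ⟨_, mem_subgroupOf.1 hy⟩
      ⟨_, mem_subgroupOf.1 (hnorm x hx)⟩)
  set R₀ := (MonoidHom.transferSylow P hNC).ker with hR₀
  have hcomp := MonoidHom.ker_transferSylow_isComplement' P hNC
  set R := R₀.map K.subtype with hR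
  have hRodd : ¬ p ∣ Nat.card R := by
    rw [hR, card_map_of_injective K.subtype_injective]
    exact MonoidHom.not_dvd_card_ker_transferSylow P hNC
  have hRK : R ≤ K := map_subtype_le _
  have hKR : K ≤ normalizer (R : Set G) := by
    intro k hk
    refine mem_normalizer_of_forall fun x hx => ?_
    obtain ⟨y, hy, rfl⟩ := hx
    exact ⟨_, (inferInstance : R₀.Normal).conj_mem y hy ⟨k, hk⟩, rfl⟩
  have hfix : R ⊓ normalizer (H : Set G) = ⊥ := by
    rw [eq_bot_iff, ← inf_eq_bot_of_odd h2 hRodd]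
    exact fun x hx => ⟨hx.1, (hec a).le ⟨hRK hx.1, hx.2⟩⟩
  have hXp : IsPGroup p ((H.map (MulAut.conj a).toMonoidHom).subgroupOf K) :=
    (h2.map _).comap_subtype
  obtain ⟨Q, hQ⟩ := hXp.exists_le_sylow
  obtain ⟨k, hk⟩ := MulAction.exists_smul_eq K P Q
  obtain ⟨r, hr, y, hy, hrp⟩ : ∃ r ∈ R₀, ∃ y ∈ (P : Subgroup K), k = r * y := by
    obtain ⟨⟨r, y⟩, h⟩ := hcomp.2 k
    exact ⟨r, r.2, y, y.2, h.symm⟩
  refine ⟨R, r, ⟨r, hr, rfl⟩, mem_normalizer_of_forall fun h hh => ?_, hRodd,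
    (le_sup_left).trans hKR, hfix, hRK⟩
  have hx : a * h * a⁻¹ ∈ K := le_sup_right (a := H) ⟨h, hh, rfl⟩
  have h1 : (⟨_, hx⟩ : K) ∈ (Q : Subgroup K) := hQ (mem_subgroupOf.2 ⟨h, hh, rfl⟩)
  rw [← hk, Sylow.coe_subgroup_smul, mem_pointwise_smul_iff_inv_smul_mem] at h1
  have h2' : y * (k⁻¹ * ⟨_, hx⟩ * k) * y⁻¹ ∈ (P : Subgroup K) := by
    refine mul_mem (mul_mem hy ?_) (inv_mem hy)
    simpa [MulAut.smul_def, MulAut.conj_apply] using h1
  rw [hPeq, mem_subgroupOf, hrp] at h2'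
  convert h2' using 1
  push_cast
  group

/-- An element of `R` that commutes with `H` modulo `M` lies in `M`. -/
theorem mem_of_comm_mem (h2 : IsPGroup p H) {R : Subgroup G} (hRodd : ¬ p ∣ Nat.card R)
    (hHR : H ≤ normalizer (R : Set G)) (hfix : R ⊓ normalizer (H : Set G) = ⊥)
    (M : Subgroup G) (hHM : H ≤ normalizer (M : Set G)) {u : G} (hu : u ∈ R)
    (hc : ∀ h ∈ H, u⁻¹ * (h * u * h⁻¹) ∈ M) : u ∈ M := by
  let X := {x : G // x ∈ R ∧ u⁻¹ * x ∈ M}
  let e : X ≃ (R ⊓ M : Subgroup G) :=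
    { toFun := fun x => ⟨u⁻¹ * x.1, (mul_mem (inv_mem hu) x.2.1 : u⁻¹ * x.1 ∈ R), x.2.2⟩
      invFun := fun y => ⟨u * y.1, mul_mem hu y.2.1, by simpa [← mul_assoc] using y.2.2⟩
      left_inv := fun x => by simp [← mul_assoc]
      right_inv := fun y => by simp [← mul_assoc] }
  letI : MulAction H X :=
    { smul := fun h x => ⟨(h : G) * x.1 * (h : G)⁻¹,
        (mem_normalizer_iff.1 (hHR h.2) _).1 x.2.1, by
          have h1 := mul_mem (hc h h.2) ((mem_normalizer_iff.1 (hHM h.2) _).1 x.2.2)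
          convert h1 using 1
          group⟩
      one_smul := fun x => Subtype.ext (by change (1 : G) * x.1 * 1⁻¹ = x.1; simp)
      mul_smul := fun h h' x => Subtype.ext (by
        change ((h : G) * h') * x.1 * ((h : G) * h')⁻¹ = h * (h' * x.1 * (h' : G)⁻¹) * (h : G)⁻¹
        group) }
  have hcard : ¬ p ∣ Nat.card X := fun h => hRodd <|
    (h.trans (dvd_of_eq (Nat.card_congr e))).trans (card_dvd_of_le inf_le_left)
  obtain ⟨x, hx⟩ := h2.nonempty_fixed_point_of_prime_not_dvd_card X hcard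
  have hxc : x.1 ∈ centralizer (H : Set G) := mem_centralizer_iff.2 fun h hh => by
    have := congrArg Subtype.val (hx ⟨h, hh⟩)
    exact mul_inv_eq_iff_eq_mul.1 this
  have hx1 : x.1 = 1 := by
    have : x.1 ∈ (⊥ : Subgroup G) := hfix ▸ ⟨x.2.1, centralizer_le_normalizer _ hxc⟩
    exact mem_bot.1 this
  have h3 := x.2.2
  rw [hx1, mul_one] at h3
  exact inv_mem_iff.1 h3

/-- An element of `R w` is conjugate to `w u` with `u ∈ R` centralising `w`. -/
theorem exists_conj_eq (h2 : IsPGroup p H) (hab : IsMulCommutative H) {R : Subgroup G}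
    (hRodd : ¬ p ∣ Nat.card R) (hHR : H ≤ normalizer (R : Set G)) {r w : G} (hr : r ∈ R)
    (hw : w ∈ H) : ∃ x u : G, x ∈ R ⊔ H ∧ u ∈ R ∧ Commute u w ∧ x * (r * w) * x⁻¹ = w * u := by
  set L := R ⊔ H with hL
  set RL := R.subgroupOf L with hRL
  set HL := H.subgroupOf L with hHL
  have : RL.Normal := by
    have hLN : L ≤ normalizer (R : Set G) := sup_le le_normalizer hHR
    exact ⟨fun y hy g => mem_subgroupOf.2 ((mem_normalizer_iff.1 (hLN g.2) _).1
      (mem_subgroupOf.1 hy))⟩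
  have hRH := inf_eq_bot_of_odd h2 hRodd
  have hdec : ∀ y : L, ∃ r' ∈ RL, ∃ h ∈ HL, y = r' * h := by
    intro y
    have hy : (y : G) ∈ ((R : Set G) * (H : Set G)) := by
      rw [← coe_mul_of_right_le_normalizer_left R H hHR]; exact y.2
    obtain ⟨r', hr', h, hh, e⟩ := hy
    exact ⟨⟨r', le_sup_left (a := R) hr'⟩, mem_subgroupOf.2 hr', ⟨h, le_sup_right (a := R) hh⟩,
      mem_subgroupOf.2 hh, Subtype.ext e.symm⟩
  set f := QuotientGroup.mk' RL with hf
  have himg : ∀ y : L, ∃ h ∈ HL, f y = f h := by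
    intro y
    obtain ⟨r', hr', h, hh, rfl⟩ := hdec y
    exact ⟨h, hh, by rw [map_mul, show f r' = 1 from (QuotientGroup.eq_one_iff _).2 hr', one_mul]⟩
  have hcm : ∀ x y : L, f (x * y * x⁻¹) = f y := by
    intro x y
    obtain ⟨hx', hx'm, ex⟩ := himg x
    obtain ⟨hy', hy'm, ey⟩ := himg y
    have : hx' * hy' = hy' * hx' := Subtype.ext (congrArg (Subtype.val : H → G)
      (hab.is_comm.comm ⟨_, mem_subgroupOf.1 hx'm⟩ ⟨_, mem_subgroupOf.1 hy'm⟩))
    rw [map_mul, map_mul, map_inv, ex, ey, ← map_mul, this, map_mul, mul_inv_cancel_right]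
  have hcomp : RL.IsComplement' HL := by
    refine isComplement'_of_disjoint_and_mul_eq_univ ?_ (Set.eq_univ_of_forall fun y => ?_)
    · rw [disjoint_iff, eq_bot_iff]
      intro y hy
      refine mem_bot.2 (Subtype.ext ?_)
      have : (y : G) ∈ (⊥ : Subgroup G) := hRH ▸ ⟨mem_subgroupOf.1 hy.1, mem_subgroupOf.1 hy.2⟩
      exact mem_bot.1 this
    · obtain ⟨r', hr', h, hh, rfl⟩ := hdec y
      exact Set.mul_mem_mul hr' hh
  have hidx : ¬ p ∣ HL.index := by
    rw [hcomp.index_eq_card, Nat.card_congr (subgroupOfEquivOfLe le_sup_left).toEquiv]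
    exact hRodd
  have hHLp : IsPGroup p HL := h2.comap_subtype
  set P : Sylow p L := hHLp.toSylow hidx with hPdef
  set k : L := ⟨r * w, mul_mem (le_sup_left (a := R) hr) (le_sup_right (a := R) hw)⟩ with hk
  set k₂ := Blocks.pPartOf p k with hk₂
  set k₁ := Blocks.pPrimePartOf p k with hk₁
  obtain ⟨m, hm⟩ := Blocks.orderOf_pPartOf hp.out k
  have hk₂p : IsPGroup p (zpowers k₂) := IsPGroup.of_card (n := m) (by rw [Nat.card_zpowers, hm])
  obtain ⟨Q, hQ⟩ := hk₂p.exists_le_sylow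
  obtain ⟨c, hc⟩ := MulAction.exists_smul_eq L P Q
  have hmem : c⁻¹ * k₂ * c ∈ HL := by
    have h1 := hQ (mem_zpowers k₂)
    rw [← hc, Sylow.coe_subgroup_smul, mem_pointwise_smul_iff_inv_smul_mem, hPdef,
      IsPGroup.toSylow_coe] at h1
    simpa [MulAut.smul_def, MulAut.conj_apply] using h1
  set h₀ := c⁻¹ * k₂ * c with hh₀
  set u := c⁻¹ * k₁ * c with hu
  set w' : L := ⟨w, le_sup_right (a := R) hw⟩ with hw'
  have hfk : f k = f w' := by
    rw [show k = ⟨r, le_sup_left (a := R) hr⟩ * w' from Subtype.ext rfl, map_mul,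
      show f ⟨r, le_sup_left (a := R) hr⟩ = 1 from
        (QuotientGroup.eq_one_iff _).2 (mem_subgroupOf.2 hr), one_mul]
  have hfh : f h₀ = f k₂ := by simpa [hh₀] using hcm c⁻¹ k₂
  have hfu : f u = f k₁ := by simpa [hu] using hcm c⁻¹ k₁
  have hfu1 : f u = f (h₀⁻¹ * w') := by
    rw [hfu, map_mul f h₀⁻¹ w', map_inv, hfh, eq_inv_mul_iff_mul_eq, ← map_mul,
      Blocks.pPartOf_mul_pPrimePartOf hp.out k, hfk]
  have hmH : h₀⁻¹ * w' ∈ HL := mul_mem (inv_mem hmem) (mem_subgroupOf.2 hw)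
  have hfu0 : f u = 1 := by
    obtain ⟨j, hj⟩ := IsPGroup.iff_orderOf.1 hHLp ⟨_, hmH⟩
    rw [orderOf_mk] at hj
    refine eq_one_of_dvd (Blocks.not_dvd_orderOf_pPrimePartOf hp.out k)
      (hfu ▸ orderOf_map_dvd f k₁) (k := j) ?_
    rw [hfu1, ← hj]
    exact orderOf_map_dvd f _
  have huR : (u : G) ∈ R := mem_subgroupOf.1 ((QuotientGroup.eq_one_iff _).1 hfu0)
  have hh₀w : h₀ = w' := by
    have h1 : h₀⁻¹ * w' ∈ RL ⊓ HL :=
      ⟨(QuotientGroup.eq_one_iff _).1 (show f (h₀⁻¹ * w') = 1 by rw [← hfu1, hfu0]), hmH⟩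
    rw [hcomp.disjoint.eq_bot, mem_bot, inv_mul_eq_one] at h1
    exact h1
  refine ⟨(c : G)⁻¹, u, inv_mem c.2, huR, ?_, ?_⟩
  · have h1 : Commute u h₀ := by
      simpa [hu, hh₀] using
        ((Commute.conj_iff c⁻¹).2 (Blocks.commute_pPartOf_pPrimePartOf (p := p) (g := k)).symm)
    exact congrArg Subtype.val (hh₀w ▸ h1 : Commute u w').eq
  · have h1 : c⁻¹ * k * c = h₀ * u := by
      conv_lhs => rw [← Blocks.pPartOf_mul_pPrimePartOf hp.out k]
      rw [hh₀, hu, ← hk₂, ← hk₁]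
      group
    rw [hh₀w] at h1
    simpa [hk, hw'] using congrArg Subtype.val h1

omit [Finite G] hp in
theorem restrict (hec : Cfsg.IsExtremelyClosed H) {L : Subgroup G} (hHL : H ≤ L) :
    Cfsg.IsExtremelyClosed (H.subgroupOf L) := by
  intro g
  refine le_antisymm ?_ (le_inf le_sup_left le_normalizer)
  intro x hx
  have h1 : (x : G) ∈ (H.subgroupOf L ⊔
      (H.subgroupOf L).map (MulAut.conj g).toMonoidHom).map L.subtype := ⟨x, hx.1, rfl⟩
  rw [Subgroup.map_sup, map_subgroupOf_eq_of_le hHL, map_map,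
    show L.subtype.comp (MulAut.conj g).toMonoidHom =
      (MulAut.conj (g : G)).toMonoidHom.comp L.subtype from MonoidHom.ext fun y => rfl,
    ← map_map, map_subgroupOf_eq_of_le hHL] at h1
  refine mem_subgroupOf.2 ((hec g).le ⟨h1, ?_⟩)
  refine mem_normalizer_iff.2 fun y => ?_
  constructor
  · intro hy
    exact mem_subgroupOf.1 ((mem_normalizer_iff.1 hx.2 ⟨y, hHL hy⟩).1 (mem_subgroupOf.2 hy))
  · intro hy
    have hyL : y ∈ L := by
      have h3 := mul_mem (mul_mem (inv_mem x.2) (hHL hy)) x.2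
      simpa [mul_assoc] using h3
    exact mem_subgroupOf.1 ((mem_normalizer_iff.1 hx.2 ⟨y, hyL⟩).2 (mem_subgroupOf.2 hy))

omit [Finite G] hp in
theorem map_quotient (hec : Cfsg.IsExtremelyClosed H) {G' : Type*} [Group G'] {f : G →* G'}
    (hf : Function.Surjective f) (hker : f.ker ≤ H) : Cfsg.IsExtremelyClosed (H.map f) := by
  intro g'
  obtain ⟨g, rfl⟩ := hf g'
  refine le_antisymm ?_ (le_inf le_sup_left le_normalizer)
  intro y hy
  have h1 := hy.1
  rw [map_map, show (MulAut.conj (f g)).toMonoidHom.comp f =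
      f.comp (MulAut.conj g).toMonoidHom from MonoidHom.ext fun x => by simp, ← map_map,
    ← Subgroup.map_sup] at h1
  obtain ⟨x, hx, rfl⟩ := h1
  refine mem_map_of_mem f ((hec g).le ⟨hx, ?_⟩)
  have hback : ∀ z, f z ∈ H.map f → z ∈ H := fun z hz => by
    have : z ∈ (H.map f).comap f := hz
    rwa [comap_map_eq, sup_eq_left.2 hker] at this
  refine mem_normalizer_iff.2 fun z => ?_
  constructor
  · intro hz
    exact hback _ (by simpa using (mem_normalizer_iff.1 hy.2 (f z)).1 (mem_map_of_mem f hz))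
  · intro hz
    exact hback _ ((mem_normalizer_iff.1 hy.2 (f z)).2 (by simpa using mem_map_of_mem f hz))

/-- Extreme closure passes to quotients by normal `p'`-subgroups. -/
theorem map_coprime (hH : IsPGroup p H) (hab : IsMulCommutative H)
    (hec : Cfsg.IsExtremelyClosed H) {G' : Type*} [Group G'] {f : G →* G'}
    (hf : Function.Surjective f) (hker : ¬ p ∣ Nat.card f.ker) :
    Cfsg.IsExtremelyClosed (H.map f) := by
  intro g'
  obtain ⟨g, rfl⟩ := hf g'
  refine le_antisymm ?_ (le_inf le_sup_left le_normalizer)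
  intro y hy
  have h1 := hy.1
  rw [map_map, show (MulAut.conj (f g)).toMonoidHom.comp f =
      f.comp (MulAut.conj g).toMonoidHom from MonoidHom.ext fun x => by simp, ← map_map,
    ← Subgroup.map_sup] at h1
  obtain ⟨x, hx, rfl⟩ := h1
  obtain ⟨R, v, hv, hn, hR, hHR, hfix, hRK⟩ := exists_twist hH hab hec g
  have hle : H ⊔ H.map (MulAut.conj g).toMonoidHom ≤ R ⊔ H := by
    refine sup_le le_sup_right ?_
    rintro _ ⟨h, hh, rfl⟩
    have h2 : v * ((v⁻¹ * g) * h * (v⁻¹ * g)⁻¹) * v⁻¹ ∈ R ⊔ H :=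
      mul_mem (mul_mem (mem_sup_left hv) (mem_sup_right ((mem_normalizer_iff.1 hn h).1 hh)))
        (inv_mem (mem_sup_left hv))
    change g * h * g⁻¹ ∈ R ⊔ H
    convert h2 using 1
    group
  have hxm : x ∈ (R : Set G) * (H : Set G) := by
    rw [← coe_mul_of_right_le_normalizer_left R H hHR]; exact hle hx
  obtain ⟨r, hr, h, hh, rfl⟩ := hxm
  have hrN : f r ∈ normalizer ((H.map f : Subgroup G') : Set G') := by
    have h4 : f (r * h) ∈ normalizer ((H.map f : Subgroup G') : Set G') := hy.2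
    have h3 := mul_mem h4 (inv_mem (le_normalizer (mem_map_of_mem f hh)))
    rwa [map_mul, mul_inv_cancel_right] at h3
  have hrk : r ∈ f.ker := by
    refine mem_of_comm_mem hH hR hHR hfix f.ker ?_ hr fun z hz => ?_
    · exact fun z _ => mem_normalizer_of_forall fun w hw =>
        (inferInstance : f.ker.Normal).conj_mem w hw z
    · set c := r⁻¹ * (z * r * z⁻¹) with hc
      have hcR : c ∈ R := mul_mem (inv_mem hr) ((mem_normalizer_iff.1 (hHR hz) _).1 hr)
      have hcH : f c ∈ H.map f := by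
        have h3 := mul_mem ((mem_normalizer_iff.1 (inv_mem hrN) _).1 (mem_map_of_mem f hz))
          (inv_mem (mem_map_of_mem f hz))
        simpa [hc, mul_assoc] using h3
      obtain ⟨w, hw, hwc⟩ := hcH
      obtain ⟨j, hj⟩ := IsPGroup.iff_orderOf.1 hH ⟨w, hw⟩
      rw [orderOf_mk] at hj
      refine MonoidHom.mem_ker.2 (eq_one_of_dvd (k := j) hR ((orderOf_map_dvd f c).trans ?_)
        (by rw [← hwc, ← hj]; exact orderOf_map_dvd f w))
      exact orderOf_mk c hcR ▸ orderOf_dvd_natCard (⟨c, hcR⟩ : R)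
  exact ⟨h, hh, by rw [map_mul, MonoidHom.mem_ker.1 hrk, one_mul]⟩

/-- An element of `H` with no other conjugate in `H` has an isolated involution as a power. -/
theorem exists_isolated (h2 : IsPGroup 2 H) (hab : IsMulCommutative H)
    (hec : Cfsg.IsExtremelyClosed H) {h : G} (hh : h ∈ H) (h1 : h ≠ 1)
    (hs : ∀ g : G, g * h * g⁻¹ ∈ H → g * h * g⁻¹ = h) :
    ∃ t ∈ H, Cfsg.IsIsolatedInvolution t := by
  obtain ⟨k, hk⟩ := IsPGroup.iff_orderOf.1 h2 ⟨h, hh⟩
  rw [orderOf_mk] at hk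
  obtain ⟨j, rfl⟩ : ∃ j, k = j + 1 := Nat.exists_eq_succ_of_ne_zero (by
    rintro rfl
    exact h1 (orderOf_eq_one_iff.1 (by rw [hk, pow_zero])))
  set t := h ^ 2 ^ j with ht
  have htH : t ∈ H := pow_mem hh _
  have hto : orderOf t = 2 := by
    rw [ht, orderOf_pow' _ (by positivity), hk, pow_succ,
      Nat.gcd_eq_right (Dvd.intro 2 rfl), Nat.mul_div_cancel_left _ (by positivity)]
  refine ⟨t, htH, hto, fun g hc => ?_⟩
  obtain ⟨R, v, hv, hn, hRodd, hHR, -, -⟩ := exists_twist h2 hab hec g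
  set n := v⁻¹ * g with hndef
  have hnh : n * h * n⁻¹ = h := hs n ((mem_normalizer_iff.1 hn h).1 hh)
  have hnt : n * t * n⁻¹ = t := by rw [ht, ← conj_pow, hnh]
  have hgt : g * t * g⁻¹ = v * t * v⁻¹ := by
    calc g * t * g⁻¹ = v * (n * t * n⁻¹) * v⁻¹ := by rw [hndef]; group
      _ = _ := by rw [hnt]
  rw [hgt] at hc ⊢
  set y := v * t * v⁻¹ * t⁻¹ with hy
  have hyR : y ∈ R := by
    have h1 : t * v⁻¹ * t⁻¹ ∈ R := (mem_normalizer_iff.1 (hHR htH) _).1 (inv_mem hv)
    simpa [hy, mul_assoc] using mul_mem hv h1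
  have ht2 : t * t = 1 := by rw [← pow_two, ← hto, pow_orderOf_eq_one]
  have hy2 : y ^ 2 = 1 := by
    have e1 : y = t * (v * t * v⁻¹) := by
      rw [hy, inv_eq_of_mul_eq_one_right ht2, ← hc.eq]
    have e2 : (v * t * v⁻¹) ^ 2 = 1 := by rw [conj_pow, pow_two, ht2, mul_one, mul_inv_cancel]
    rw [e1, hc.mul_pow, e2, pow_two, ht2, mul_one]
  have : y = 1 := eq_one_of_dvd hRodd
    (orderOf_mk y hyR ▸ orderOf_dvd_natCard (⟨y, hyR⟩ : R)) (k := 1)
    (by rw [pow_one]; exact orderOf_dvd_of_pow_eq_one hy2)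
  exact mul_inv_eq_one.1 this

end Cfsg.Agent.ExtClosedTwo
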