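import Cfsg.Agent.ExtClosedTwo.OddP
import Cfsg.Agent.Char.Glauberman.Cyclic

/-!
# The normal closure of an extremely closed abelian p-subgroup, p odd

If `X = K H` with `K` a normal `p'`-subgroup then `[K, H] ∩ C(H) = 1`: for `z ∈ H` of order `p`
every character of `K` obtained from an irreducible character of `C_K(H)` by the Glauberman
correspondence for `z` extends to one with `z` in the kernel.
-/

namespace Cfsg.Agent.ExtClosedTwo

open Subgroup
open scoped Pointwise
open Cfsg.Agent

universe u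

variable {X : Type u} [Group X] [Finite X] {p : ℕ} [hp : Fact p.Prime] {H K : Subgroup X}

theorem eq_one_of_forall_irr {T : Type u} [Group T] [Finite T] {t : T}
    (h : ∀ γ : Cfsg.IrrCharacter T, (γ : T → ℂ) t = (γ : T → ℂ) 1) : t = 1 := by
  obtain ⟨c, hc⟩ := isConj_iff.1 ((Char.isConj_iff_forall_irr 1 t).2 fun γ => (h γ).symm)
  rw [mul_one, mul_inv_cancel] at hc
  exact hc.symm

omit [Finite X] in
/-- A subgroup of `p'`-order lies in a normal `p'`-subgroup with `p`-group quotient. -/
theorem le_of_coprime_quotient (h2 : IsPGroup p H) [K.Normal] (htop : K ⊔ H = ⊤) {R : Subgroup X}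
    (hR : ¬ p ∣ Nat.card R) : R ≤ K := by
  intro r hr
  have hr' : r ∈ (K : Set X) * (H : Set X) := by
    rw [← normal_mul, htop]; exact Set.mem_univ _
  obtain ⟨k, hk, h, hh, e⟩ := hr'
  obtain ⟨j, hj⟩ := IsPGroup.iff_orderOf.1 h2 ⟨h, hh⟩
  rw [orderOf_mk] at hj
  set f := QuotientGroup.mk' K with hf
  have hfr : f r = f h := by
    rw [← e]; simp only [map_mul, show f k = 1 from (QuotientGroup.eq_one_iff _).2 hk, one_mul]
  refine (QuotientGroup.eq_one_iff _).1 (eq_one_of_dvd (k := j) hR ((orderOf_map_dvd f r).trans ?_)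
    (show orderOf (f r) ∣ p ^ j by rw [hfr, ← hj]; exact orderOf_map_dvd f h))
  exact orderOf_mk r hr ▸ orderOf_dvd_natCard (⟨r, hr⟩ : R)

theorem closure_below : ∀ (n : ℕ) (X : Type u) [Group X] [Finite X], p ≠ 2 → Nat.card X < n →
    ∀ (K H : Subgroup X), K.Normal → ¬ p ∣ Nat.card K → K ⊔ H = ⊤ → IsPGroup p H →
      IsMulCommutative H → Cfsg.IsExtremelyClosed H →
      ∀ x ∈ ⁅K, H⁆, x ∈ centralizer (H : Set X) → x = 1 := by
  intro n
  induction n with
  | zero => intro X _ _ _ h; omega
  | succ n ih =>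
    intro X _ _ hodd hlt K H hKn hK htop h2 hab hec x hx hxc
    have hsolv : Group.IsSolvable H := Group.isSolvable_of_comm hab.is_comm.comm
    have hHK : H ≤ normalizer (K : Set X) := le_normalizer_of_normal
    have hcopH : (Nat.card H).Coprime (Nat.card K) := by
      obtain ⟨k, hk⟩ := IsPGroup.iff_card.1 h2
      rw [hk]
      exact (hp.out.coprime_iff_not_dvd.2 hK).pow_left k
    have hKH : K ⊓ H = ⊥ := inf_eq_bot_of_odd h2 hK
    have hxK : x ∈ K := Coprime.commutator_le_of_le_normalizer hHK hx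
    rcases eq_or_ne H ⊥ with rfl | hne
    · rw [commutator_bot_right] at hx
      exact mem_bot.1 hx
    obtain ⟨z₀, hz₀⟩ : ∃ z₀ : H, orderOf z₀ = p := by
      obtain ⟨k, hk⟩ := IsPGroup.iff_card.1 h2
      refine exists_prime_orderOf_dvd_card' p (hk ▸ dvd_pow_self p ?_)
      rintro rfl
      exact hne (card_eq_one.1 (by rw [hk, pow_zero]))
    set z : X := (z₀ : X) with hzdef
    have hz : z ∈ H := z₀.2
    have ho : orderOf z = p := by rw [hzdef, orderOf_coe, hz₀]
    have hzH : zpowers z ≤ H := zpowers_le.2 hz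
    set W := ⁅K, zpowers z⁆ with hW
    have hcommH : ∀ h ∈ H, h * z * h⁻¹ = z := fun h hh => mul_inv_eq_iff_eq_mul.2
      (congrArg (Subtype.val : H → X) (hab.is_comm.comm ⟨h, hh⟩ ⟨z, hz⟩))
    have hWn : W.Normal := by
      rw [← normalizer_eq_top_iff, eq_top_iff, ← htop]
      refine sup_le ((le_sup_left).trans Coprime.le_normalizer_commutator) fun h hh => ?_
      rw [mem_normalizer_iff_map_conj_eq, hW, map_commutator,
        mem_normalizer_iff_map_conj_eq.1 (hHK hh), MonoidHom.map_zpowers]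
      congr 2
      simp [hcommH h hh]
    have habm : ∀ {X' : Type u} [Group X'] (f : X →* X'), IsMulCommutative (H.map f) := by
      intro X' _ f
      refine ⟨⟨?_⟩⟩
      rintro ⟨_, a, ha, rfl⟩ ⟨_, b, hb, rfl⟩
      refine Subtype.ext ?_
      simp only [Subgroup.coe_mul, ← map_mul]
      exact congrArg _ (congrArg (Subtype.val : H → X) (hab.is_comm.comm ⟨a, ha⟩ ⟨b, hb⟩))
    have hquot : ∀ (N : Subgroup X) [N.Normal], N ≠ ⊥ →
        Cfsg.IsExtremelyClosed (H.map (QuotientGroup.mk' N)) → x ∈ N := by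
      intro N _ hN hec'
      set f := QuotientGroup.mk' N with hf
      have h1 := ih (X ⧸ N) hodd (by have := Core.card_quotient_lt hN; omega) (K.map f) (H.map f)
        (hKn.map f (QuotientGroup.mk'_surjective N))
        (fun h => hK (h.trans (card_map_dvd _ _)))
        (by rw [← Subgroup.map_sup, htop, map_top_of_surjective _ (QuotientGroup.mk'_surjective N)])
        (h2.map _) (habm f) hec' (f x) (by rw [← map_commutator]; exact mem_map_of_mem f hx)
        (by
          rw [mem_centralizer_iff]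
          rintro _ ⟨h, hh, rfl⟩
          rw [← map_mul, ← map_mul, mem_centralizer_iff.1 hxc h hh])
      exact (QuotientGroup.eq_one_iff _).1 h1
    rcases eq_or_ne W ⊥ with hW0 | hW0
    · -- `z` is central
      have hKz : K ≤ centralizer (zpowers z : Set X) :=
        commutator_eq_bot_iff_le_centralizer.1 hW0
      have hzc : z ∈ center X := by
        refine mem_center_iff.2 fun g => ?_
        have hle : (⊤ : Subgroup X) ≤ centralizer ({z} : Set X) := by
          rw [← htop]
          refine sup_le (fun k hk => mem_centralizer_singleton_iff.2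
            (mem_centralizer_iff.1 (hKz hk) z (mem_zpowers z)).symm) fun h hh => ?_
          exact mem_centralizer_singleton_iff.2 (mul_inv_eq_iff_eq_mul.1 (hcommH h hh))
        exact mem_centralizer_singleton_iff.1 (hle (mem_top g))
      have : (zpowers z).Normal := ⟨fun a ha g => by
        rw [mem_center_iff.1 ((zpowers_le.2 hzc) ha) g, mul_inv_cancel_right]; exact ha⟩
      have hzne : zpowers z ≠ ⊥ := fun e => by
        rw [zpowers_eq_bot] at e
        rw [e, orderOf_one] at ho
        exact hp.out.ne_one ho.symm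
      have hxz := hquot (zpowers z) hzne (map_quotient hec (QuotientGroup.mk'_surjective _)
        (by rw [QuotientGroup.ker_mk']; exact hzH))
      have : x ∈ K ⊓ H := ⟨hxK, hzH hxz⟩
      rwa [hKH, mem_bot] at this
    -- `x` lies in `W`
    have hxW : x ∈ W := hquot W hW0 (map_coprime h2 hab hec (QuotientGroup.mk'_surjective _) (by
      rw [QuotientGroup.ker_mk']
      exact fun h => hK (h.trans (card_dvd_of_le (Coprime.commutator_le_of_le_normalizer
        (hzH.trans hHK))))))
    set Cz := centralizer ({z} : Set X) with hCz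
    have hHCz : H ≤ Cz := fun h hh =>
      mem_centralizer_singleton_iff.2 (mul_inv_eq_iff_eq_mul.1 (hcommH h hh))
    have hCztop : Cz ≠ ⊤ := by
      intro e
      refine hW0 (commutator_eq_bot_iff_le_centralizer.2 fun k _ => mem_centralizer_iff.2 ?_)
      intro y hy
      obtain ⟨i, rfl⟩ := mem_zpowers_iff.1 hy
      have hc : Commute z k := (mem_centralizer_singleton_iff.1
        (show k ∈ centralizer ({z} : Set X) from hCz ▸ e.symm ▸ mem_top k)).symm
      exact (hc.zpow_left i).eq
    set K₁ := K ⊓ Cz with hK₁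
    have hHK₁ : H ≤ normalizer (K₁ : Set X) := fun h hh =>
      mem_normalizer_of_forall fun k hk => ⟨(mem_normalizer_iff.1 (hHK hh) k).1 hk.1,
        (mul_mem (mul_mem (hHCz hh) hk.2) (inv_mem (hHCz hh)) : h * k * h⁻¹ ∈ Cz)⟩
    have hK₁p : ¬ p ∣ Nat.card K₁ := fun h => hK (h.trans (card_dvd_of_le inf_le_left))
    set V := ⁅K₁, H⁆ with hV
    set T := K ⊓ centralizer (H : Set X) with hT
    have hTK₁ : T ≤ K₁ := fun t ht => ⟨ht.1, mem_centralizer_singleton_iff.2
      ((mem_centralizer_iff.1 ht.2) z hz).symm⟩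
    have hVT : ∀ y ∈ V, y ∈ centralizer (H : Set X) → y = 1 := by
      intro y hy hyc
      set L := K₁ ⊔ H with hL
      have hLne : L ≠ ⊤ := fun e => hCztop (top_le_iff.1 (e ▸ sup_le inf_le_right hHCz))
      have h1 := ih L hodd (by have := Core.card_lt_of_ne_top hLne; omega) (K₁.subgroupOf L)
        (H.subgroupOf L) ((normal_subgroupOf_iff_le_normalizer le_sup_left).2
          (sup_le le_normalizer hHK₁))
        (by rwa [Nat.card_congr (subgroupOfEquivOfLe le_sup_left).toEquiv])
        (by rw [← subgroupOf_sup le_sup_left le_sup_right, subgroupOf_self])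
        h2.comap_subtype
        ⟨⟨fun a b => Subtype.ext (Subtype.ext (congrArg (Subtype.val : H → X)
          (hab.is_comm.comm ⟨_, mem_subgroupOf.1 a.2⟩ ⟨_, mem_subgroupOf.1 b.2⟩)))⟩⟩
        (restrict hec le_sup_right)
      have hyL : y ∈ (⁅K₁.subgroupOf L, H.subgroupOf L⁆).map L.subtype := by
        rwa [map_commutator, map_subgroupOf_eq_of_le le_sup_left,
          map_subgroupOf_eq_of_le le_sup_right]
      obtain ⟨y', hy', rfl⟩ := hyL
      have := h1 y' hy' (mem_centralizer_iff.2 fun w hw =>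
        Subtype.ext (mem_centralizer_iff.1 hyc w (mem_subgroupOf.1 hw)))
      rw [this]
      rfl
    have hVK₁ : V ≤ K₁ := Coprime.commutator_le_of_le_normalizer hHK₁
    have hcopK₁ : (Nat.card H).Coprime (Nat.card K₁) :=
      hcopH.coprime_dvd_right (card_dvd_of_le inf_le_left)
    have hsup : V ⊔ T = K₁ := by
      refine le_antisymm (sup_le hVK₁ hTK₁) ?_
      conv_lhs => rw [← Coprime.commutator_sup_centralizer hHK₁ hcopK₁ (Or.inl hsolv)]
      exact sup_le le_sup_left ((inf_le_inf_right _ inf_le_left).trans le_sup_right)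
    set V' := V.subgroupOf K₁ with hV'
    have : V'.Normal := (normal_subgroupOf_iff_le_normalizer hVK₁).2
      ((le_sup_left).trans Coprime.le_normalizer_commutator)
    let φ : T →* K₁ ⧸ V' := (QuotientGroup.mk' V').comp (Subgroup.inclusion hTK₁)
    have hφ : Function.Bijective φ := by
      refine ⟨(injective_iff_map_eq_one φ).2 fun t ht => ?_, fun y => ?_⟩
      · exact Subtype.ext (hVT t (mem_subgroupOf.1 ((QuotientGroup.eq_one_iff (N := V') (Subgroup.inclusion hTK₁ t)).1 ht)) t.2.2)
      · obtain ⟨k, rfl⟩ := QuotientGroup.mk'_surjective V' y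
        obtain ⟨v, hv, t, ht, hvt⟩ : ∃ v ∈ V, ∃ t ∈ T, v * t = (k : X) := by
          have : V ⊔ T ≤ normalizer (V : Set X) := hsup.le.trans
            ((le_sup_left).trans Coprime.le_normalizer_commutator)
          have hk : (k : X) ∈ (V : Set X) * (T : Set X) := by
            rw [← coe_mul_of_right_le_normalizer_left V T ((le_sup_right).trans this), hsup]
            exact k.2
          obtain ⟨v, hv, t, ht, e⟩ := hk
          exact ⟨v, hv, t, ht, e⟩
        refine ⟨⟨t, ht⟩, ?_⟩
        have hk' : k = ⟨v, hVK₁ hv⟩ * ⟨t, hTK₁ ht⟩ := Subtype.ext hvt.symm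
        rw [hk', map_mul, show QuotientGroup.mk' V' ⟨v, hVK₁ hv⟩ = 1 from
          (QuotientGroup.eq_one_iff _).2 (mem_subgroupOf.2 hv), one_mul]
        rfl
    let e := MulEquiv.ofBijective φ hφ
    let π : K₁ →* T := e.symm.toMonoidHom.comp (QuotientGroup.mk' V')
    have hπV : ∀ v : K₁, (v : X) ∈ V → π v = 1 := fun v hv => by
      show e.symm (QuotientGroup.mk' V' v) = 1
      rw [show QuotientGroup.mk' V' v = 1 from
        (QuotientGroup.eq_one_iff _).2 (mem_subgroupOf.2 hv), map_one]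
    have hπT : ∀ t : T, π (Subgroup.inclusion hTK₁ t) = t := fun t => e.symm_apply_apply t
    have hπs : Function.Surjective π := fun t => ⟨_, hπT t⟩
    -- the group `K⟨z⟩`
    set Γ := K ⊔ zpowers z with hΓ
    set G' := K.subgroupOf Γ with hG'
    set zΓ : Γ := ⟨z, mem_sup_right (mem_zpowers z)⟩ with hzΓ
    set S := zpowers zΓ with hS
    set C' := G' ⊓ centralizer (S : Set Γ) with hC'
    have := Fintype.ofFinite X
    have := Fintype.ofFinite Γ
    have := Fintype.ofFinite G'
    have := Fintype.ofFinite C'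
    have hzo : orderOf zΓ = p := by rw [← orderOf_coe, hzΓ]; exact ho
    have hnorm : ∀ s ∈ S, ∀ g ∈ G', s * g * s⁻¹ ∈ G' := fun s _ g hg =>
      mem_subgroupOf.2 (hKn.conj_mem _ (mem_subgroupOf.1 hg) s)
    have hcop' : (Nat.card G').Coprime (Nat.card S) := by
      rw [hS, Nat.card_zpowers, hzo, Nat.card_congr (subgroupOfEquivOfLe le_sup_left).toEquiv]
      exact (hp.out.coprime_iff_not_dvd.2 hK).symm
    have hSmap : S.map Γ.subtype = zpowers z := by
      rw [hS, MonoidHom.map_zpowers]; rfl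
    have htop' : G' ⊔ S = ⊤ := by
      refine map_injective Γ.subtype_injective ?_
      rw [Subgroup.map_sup, hG', map_subgroupOf_eq_of_le le_sup_left, hSmap,
        ← MonoidHom.range_eq_map, range_subtype]
    have hC'mem : ∀ c : C', ((c : Γ) : X) ∈ K₁ := fun c => ⟨mem_subgroupOf.1 c.2.1,
      mem_centralizer_singleton_iff.2
        (congrArg Subtype.val ((mem_centralizer_iff.1 c.2.2) zΓ (mem_zpowers _))).symm⟩
    let ι : C' →* K₁ :=
      { toFun := fun c => ⟨((c : Γ) : X), hC'mem c⟩
        map_one' := rfl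
        map_mul' := fun _ _ => rfl }
    have hιmem : ∀ k : X, k ∈ K₁ → ∃ c : C', ((c : Γ) : X) = k := by
      intro k hk
      refine ⟨⟨⟨k, mem_sup_left hk.1⟩, mem_subgroupOf.2 hk.1, mem_centralizer_iff.2 fun s hs => ?_⟩,
        rfl⟩
      obtain ⟨i, rfl⟩ := mem_zpowers_iff.1 hs
      have hc : Commute zΓ (⟨k, mem_sup_left hk.1⟩ : Γ) :=
        Subtype.ext (mem_centralizer_singleton_iff.1 hk.2).symm
      exact (hc.zpow_left i).eq
    have hιs : Function.Surjective ι := fun k => by
      obtain ⟨c, hc⟩ := hιmem k k.2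
      exact ⟨c, Subtype.ext hc⟩
    suffices hγ : ∀ γ : Cfsg.IrrCharacter T,
        (γ : T → ℂ) ⟨x, hxK, hxc⟩ = (γ : T → ℂ) 1 by
      exact congrArg Subtype.val (eq_one_of_forall_irr hγ)
    intro γ
    let β : Cfsg.IrrCharacter C' := ⟨fun c => (γ : T → ℂ) (π (ι c)),
      Char.isIrrCharacter_comp (π.comp ι) (hπs.comp hιs) γ.2⟩
    obtain ⟨χ, χh, ε, -, -, -, hε, hrel⟩ :=
      Char.Glauberman.cyc_surj (C := C') hnorm hcop' htop' hC' inf_le_left
        (isCyclic_zpowers zΓ) β
    have hgen : ∀ i : ℕ, ¬ p ∣ i → zpowers (zΓ ^ i) = S := by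
      intro i hi
      obtain ⟨j, hj⟩ := exists_pow_eq_self_of_coprime (x := zΓ) (n := i)
        (hzo ▸ (hp.out.coprime_iff_not_dvd.2 hi).symm)
      refine le_antisymm (zpowers_le.2 (pow_mem (mem_zpowers _) _)) (zpowers_le.2 ?_)
      have h := pow_mem (mem_zpowers (zΓ ^ i)) j
      rwa [hj] at h
    have hγ1 : (γ : T → ℂ) 1 ≠ 0 := Char.IsIrr.one_ne_zero γ.2
    have hval : ∀ i : ℕ, ¬ p ∣ i → ∀ c : C',
        (χh : Γ → ℂ) ((c : Γ) * zΓ ^ i) = (ε : ℂ) * (γ : T → ℂ) (π (ι c)) := fun i hi c =>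
      hrel c _ (hgen i hi)
    have hval1 : ∀ i : ℕ, ¬ p ∣ i → (χh : Γ → ℂ) (zΓ ^ i) = (ε : ℂ) * (γ : T → ℂ) 1 := by
      intro i hi
      have h := hval i hi 1
      rwa [OneMemClass.coe_one, one_mul, map_one, map_one] at h
    -- `χh` is constant on `R z²`
    have hsq : ∀ a : Γ, (χh : Γ → ℂ) (a * zΓ * a⁻¹ * zΓ) = (χh : Γ → ℂ) (zΓ ^ 2) := by
      intro a
      obtain ⟨R, v, hv, hn, hR, hHR, hfix, -⟩ := exists_twist h2 hab hec (a : X)
      have hRK : R ≤ K := le_of_coprime_quotient h2 htop hR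
      set m := v⁻¹ * (a : X) with hm
      have hmz : m * z * m⁻¹ = z := by
        have hmem : m ∈ (K : Set X) * (H : Set X) := by
          rw [← normal_mul, htop]; exact Set.mem_univ _
        obtain ⟨k, hk, h, hh, e'⟩ := hmem
        have e'' : k * h = m := e'
        have hkN : k ∈ normalizer (H : Set X) := by
          have h3 := mul_mem (e''.symm ▸ hn : k * h ∈ normalizer (H : Set X))
            (inv_mem (le_normalizer hh))
          rwa [mul_inv_cancel_right] at h3
        have hkc := Coprime.mem_centralizer_of_mem_normalizer hHK hKH hk hkN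
        rw [← e'']
        calc k * h * z * (k * h)⁻¹ = k * (h * z * h⁻¹) * k⁻¹ := by group
          _ = k * z * k⁻¹ := by rw [hcommH h hh]
          _ = z := mul_inv_eq_iff_eq_mul.2 ((mem_centralizer_iff.1 hkc) z hz).symm
      have haz : (a : X) * z * (a : X)⁻¹ = v * z * v⁻¹ := by
        calc (a : X) * z * (a : X)⁻¹ = v * (m * z * m⁻¹) * v⁻¹ := by rw [hm]; group
          _ = _ := by rw [hmz]
      have hrR : v * z * v⁻¹ * z⁻¹ ∈ R := by
        have h1 := (mem_normalizer_iff.1 (hHR hz) _).1 (inv_mem hv)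
        simpa [mul_assoc] using mul_mem hv h1
      obtain ⟨y, u, hy, huR, huw, hyu⟩ := exists_conj_eq h2 hab hR hHR hrR (pow_mem hz 2)
      -- move the conjugating element into `R`
      have hy' : y ∈ (R : Set X) * (H : Set X) := by
        rw [← coe_mul_of_right_le_normalizer_left R H hHR]; exact hy
      obtain ⟨r₀, hr₀, h₀, hh₀, rfl⟩ := hy'
      have hhH : ∀ w ∈ H, Commute h₀ w := fun w hw =>
        congrArg (Subtype.val : H → X) (hab.is_comm.comm ⟨h₀, hh₀⟩ ⟨w, hw⟩)
      set r₁ := h₀⁻¹ * r₀ * h₀ with hr₁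
      have hr₁R : r₁ ∈ R := by
        have := (mem_normalizer_iff.1 (hHR (inv_mem hh₀)) _).1 hr₀
        rwa [inv_inv] at this
      set u' := h₀⁻¹ * u * h₀ with hu'
      have hu'R : u' ∈ R := by
        have := (mem_normalizer_iff.1 (hHR (inv_mem hh₀)) _).1 huR
        rwa [inv_inv] at this
      have hz2 : z ^ 2 ∈ H := pow_mem hz 2
      have hu'c : Commute u' (z ^ 2) := by
        rw [hu']
        exact (((hhH _ hz2).inv_left).mul_left huw).mul_left (hhH _ hz2)
      have hconj : r₁ * (v * z * v⁻¹ * z⁻¹ * z ^ 2) * r₁⁻¹ = z ^ 2 * u' := by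
        calc r₁ * (v * z * v⁻¹ * z⁻¹ * z ^ 2) * r₁⁻¹
            = h₀⁻¹ * ((r₀ * h₀) * (v * z * v⁻¹ * z⁻¹ * z ^ 2) * (r₀ * h₀)⁻¹) * h₀ := by
              rw [hr₁]; group
          _ = h₀⁻¹ * (z ^ 2 * u) * h₀ := by rw [← hyu]
          _ = z ^ 2 * u' := by
              rw [hu', ← mul_assoc, ← mul_assoc, ((hhH _ hz2).inv_left).eq, mul_assoc, mul_assoc,
                ← mul_assoc h₀⁻¹]
              group
      have hu'z : Commute u' z := by
        obtain ⟨j, hj⟩ := exists_pow_eq_self_of_coprime (x := z) (n := 2)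
          (ho ▸ Nat.coprime_two_left.2 (hp.out.odd_of_ne_two hodd))
        exact hj ▸ hu'c.pow_right j
      have hu'K : u' ∈ K₁ := ⟨hRK hu'R, mem_centralizer_singleton_iff.2 hu'z.eq⟩
      have hu'V : u' ∈ V := by
        refine mem_of_comm_mem h2 hR hHR hfix V
          ((le_sup_right).trans Coprime.le_normalizer_commutator) hu'R fun h hh => ?_
        have := commutator_mem_commutator (K₁.inv_mem hu'K) hh
        simpa [commutatorElement_def, mul_assoc] using this
      obtain ⟨c, hc⟩ := hιmem u' hu'K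
      set rΓ : Γ := ⟨r₁, mem_sup_left (hRK hr₁R)⟩ with hrΓ
      have he : rΓ * (a * zΓ * a⁻¹ * zΓ) * rΓ⁻¹ = (c : Γ) * zΓ ^ 2 := by
        apply Subtype.ext
        push_cast
        rw [hc, hu'c.eq, ← hconj, haz]
        simp only [hrΓ, hzΓ]
        group
      rw [Char.classFun_isConj (Char.isClassFunction_of_isIrr χh.2) (isConj_iff.2 ⟨rΓ, he⟩),
        hval 2 (fun h => hodd ((Nat.prime_dvd_prime_iff_eq hp.out Nat.prime_two).1 h)) c,
        hval1 2 (fun h => hodd ((Nat.prime_dvd_prime_iff_eq hp.out Nat.prime_two).1 h))]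
      rw [hπV (ι c) (show ((c : Γ) : X) ∈ V from hc ▸ hu'V)]
    have h2ne : ¬ p ∣ 2 := fun h => hodd ((Nat.prime_dvd_prime_iff_eq hp.out Nat.prime_two).1 h)
    have hzker : (χh : Γ → ℂ) zΓ = (χh : Γ → ℂ) 1 := by
      have h1 := CharArith.classMult χh.2 zΓ zΓ
      rw [Finset.sum_congr rfl fun a _ => hsq a, Finset.sum_const, Finset.card_univ, nsmul_eq_mul,
        ← Nat.card_eq_fintype_card] at h1
      have hz1 : (χh : Γ → ℂ) zΓ = (ε : ℂ) * (γ : T → ℂ) 1 := by
        have h := hval1 1 hp.out.not_dvd_one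
        rwa [pow_one] at h
      rw [hval1 2 h2ne, hz1] at h1
      have hεne : (ε : ℂ) * (γ : T → ℂ) 1 ≠ 0 := by
        refine mul_ne_zero ?_ hγ1
        rcases hε with rfl | rfl <;> simp
      rw [hz1]
      refine mul_left_cancel₀ (mul_ne_zero (Char.card_ne_zero (G := Γ)) hεne) ?_
      linear_combination -h1
    set ker := Char.kerSubgroup (Char.IsIrr.isCharacter χh.2) with hker
    have hWker : ∀ w : Γ, (w : X) ∈ W → w ∈ ker := by
      intro w hw
      have hle : ⁅G', S⁆ ≤ ker :=
        (commutator_mono le_top (zpowers_le.2 hzker)).trans (commutator_le_right _ _)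
      have : (w : X) ∈ (⁅G', S⁆).map Γ.subtype := by
        rwa [map_commutator, hG', map_subgroupOf_eq_of_le le_sup_left, hSmap]
      obtain ⟨w', hw', e'⟩ := this
      exact hle (Subtype.ext e' ▸ hw')
    obtain ⟨c, hc⟩ := hιmem x (hTK₁ ⟨hxK, hxc⟩)
    have hcker : (c : Γ) ∈ ker := hWker c (hc ▸ hxW)
    have h1 := hval 1 hp.out.not_dvd_one c
    rw [pow_one, Char.IsChar.mul_left_of_mem_kernel (Char.IsIrr.isCharacter χh.2) hcker] at h1
    have hz1 : (χh : Γ → ℂ) zΓ = (ε : ℂ) * (γ : T → ℂ) 1 := by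
      have h := hval1 1 hp.out.not_dvd_one
      rwa [pow_one] at h
    have hπx : π (ι c) = ⟨x, hxK, hxc⟩ := by
      rw [← hπT ⟨x, hxK, hxc⟩]
      exact congrArg π (Subtype.ext hc)
    rw [hπx, hz1] at h1
    refine (mul_left_cancel₀ ?_ h1).symm
    rcases hε with rfl | rfl <;> simp

/-- The normal closure of `H` meets `N(H)` in `H`. -/
theorem closure_inf {G : Type u} [Group G] [Finite G] (hodd : p ≠ 2) (H : Subgroup G)
    (h2 : IsPGroup p H) (hab : IsMulCommutative H) (hec : Cfsg.IsExtremelyClosed H) :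
    normalClosure (H : Set G) ⊓ normalizer (H : Set G) = H := by
  refine le_antisymm ?_ (le_inf le_normalClosure le_normalizer)
  have hmain := main_odd hodd H h2 hab hec
  set O := Cfsg.pPrimeCore p G with hO
  set W := ⁅O, H⁆ with hW
  set J := W ⊔ H with hJ
  have hHO : H ≤ normalizer (O : Set G) := le_normalizer_of_normal
  have hcl : normalClosure (H : Set G) ≤ J := by
    rw [normalClosure, closure_le]
    intro y hy
    obtain ⟨h, hh, hconj⟩ := Group.mem_conjugatesOfSet_iff.1 hy
    obtain ⟨g, rfl⟩ := isConj_iff.1 hconj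
    obtain ⟨o, ho, n, hn, rfl⟩ := mem_sup_of_normal_left.1
      (show g ∈ O ⊔ normalizer (H : Set G) by rw [sup_comm, hmain]; exact mem_top g)
    set h' := n * h * n⁻¹ with hh'
    have hh'H : h' ∈ H := (mem_normalizer_iff.1 hn h).1 hh
    have h1 : o * h' * o⁻¹ * h'⁻¹ ∈ W := by
      simpa [commutatorElement_def] using commutator_mem_commutator ho hh'H
    have h3 : (o * h' * o⁻¹ * h'⁻¹) * h' ∈ J := mul_mem (mem_sup_left h1) (mem_sup_right hh'H)
    show o * n * h * (o * n)⁻¹ ∈ J
    convert h3 using 1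
    rw [hh']
    group
  intro y hy
  have hyJ : y ∈ (W : Set G) * (H : Set G) := by
    rw [← coe_mul_of_right_le_normalizer_left W H
      ((le_sup_right).trans Coprime.le_normalizer_commutator)]
    exact hcl hy.1
  obtain ⟨w, hw, h, hh, rfl⟩ := hyJ
  suffices hw1 : w = 1 by
    show w * h ∈ H
    rw [hw1, one_mul]; exact hh
  have hwO : w ∈ O := Coprime.commutator_le_of_le_normalizer hHO hw
  have hwN : w ∈ normalizer (H : Set G) := by
    have hy2 : w * h ∈ normalizer (H : Set G) := hy.2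
    have h3 := mul_mem hy2 (inv_mem (le_normalizer hh))
    simpa using h3
  have hwc := Coprime.mem_centralizer_of_mem_normalizer hHO
    (inf_eq_bot_of_odd h2 Core.not_dvd_card_pPrimeCore) hwO hwN
  set L := O ⊔ H with hL
  have h1 := closure_below (Nat.card L + 1) L hodd (Nat.lt_succ_self _) (O.subgroupOf L)
    (H.subgroupOf L) ((inferInstance : O.Normal).subgroupOf L)
    (by rw [Nat.card_congr (subgroupOfEquivOfLe le_sup_left).toEquiv]
        exact Core.not_dvd_card_pPrimeCore)
    (by rw [← subgroupOf_sup le_sup_left le_sup_right, subgroupOf_self])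
    h2.comap_subtype
    ⟨⟨fun a b => Subtype.ext (Subtype.ext (congrArg (Subtype.val : H → G)
      (hab.is_comm.comm ⟨_, mem_subgroupOf.1 a.2⟩ ⟨_, mem_subgroupOf.1 b.2⟩)))⟩⟩
    (restrict hec le_sup_right)
  have hwL : w ∈ (⁅O.subgroupOf L, H.subgroupOf L⁆).map L.subtype := by
    rwa [map_commutator, map_subgroupOf_eq_of_le le_sup_left,
      map_subgroupOf_eq_of_le le_sup_right]
  obtain ⟨w', hw', rfl⟩ := hwL
  have := h1 w' hw' (mem_centralizer_iff.2 fun t ht =>
    Subtype.ext (mem_centralizer_iff.1 hwc t (mem_subgroupOf.1 ht)))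
  rw [this]
  rfl

end Cfsg.Agent.ExtClosedTwo
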