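import Cfsg.Agent.ExtClosedTwo.Kernel
import Cfsg.Agent.ExtClosedTwo.Basic
import Cfsg.Agent.Invol.Section942
import Cfsg.Agent.Invol.BSBig
import Cfsg.Agent.Blocks.PrincipalColumns
import Cfsg.Agent.Blocks.WeakOrth

/-!
# Extremely closed abelian p-subgroups: reduction steps

If no element of `H` is isolated, the sums `s = ∑_{h ≠ 1} χ h` over the principal p-block satisfy
`∑ s³/χ(1) = (|H| - 2) ∑ s²` and `s ≤ χ(1)` unless `H` lies in the kernel of `χ`, which
contradicts the column norms.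
-/

namespace Cfsg.Agent.ExtClosedTwo

open Subgroup
open Cfsg.Agent
open scoped ComplexConjugate

universe u

variable {G : Type u} [Group G] {p : ℕ} [hp : Fact p.Prime]

theorem exists_natCast_mul [Finite G] {χ : G → ℂ} (hχ : Cfsg.IsCharacter G χ) (H : Subgroup G)
    [Fintype H] : ∃ d : ℕ, ∑ h : H, χ h = ((Nat.card H * d : ℕ) : ℂ) := by
  obtain ⟨d, hd⟩ : ∃ d : ℕ,
      Cfsg.classInner (fun h : H => χ h) (fun _ => (1 : ℂ)) = (d : ℂ) :=
    Char.classInner_isCharacter_eq_natCast (Char.isCharacter_res H hχ) Char.isCharacter_one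
  refine ⟨d, ?_⟩
  rw [Cfsg.classInner, inv_mul_eq_iff_eq_mul₀ Char.card_ne_zero] at hd
  simpa using hd

/-- The principal block degrees of a group with a 2-subgroup `H` have square sum at least `|H|`. -/
theorem card_le_degree_sq [Fintype G] {M : Ideal Cfsg.AlgInt} (hM : Cfsg.IsPModular p M)
    (H : Subgroup G) (h2 : IsPGroup p H) :
    Nat.card H ≤ ∑ᶠ ψ ∈ Cfsg.principalBlock M G, Cfsg.charDegree (ψ : G → ℂ) ^ 2 := by
  classical
  set B := (Cfsg.principalBlock M G).toFinite.toFinset with hB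
  rw [finsum_mem_eq_finite_toFinset_sum _ (Set.toFinite _), ← hB]
  choose d hd using fun ψ : Cfsg.IrrCharacter G =>
    exists_natCast_mul (Char.IsIrr.isCharacter ψ.2) H
  have h1 : ((∑ ψ ∈ B, Cfsg.charDegree (ψ : G → ℂ) ^ 2 : ℕ) : ℂ) =
      ∑ h : H, ∑ ψ ∈ B, (ψ : G → ℂ) 1 * (ψ : G → ℂ) h := by
    rw [Finset.sum_eq_single (1 : H)]
    · push_cast
      exact Finset.sum_congr rfl fun ψ _ => by rw [CharArith.irr_degree_spec ψ |>.1, sq]
    · intro h _ hne
      have h1 := BlockChar.sum_block_degree_mul_eq_zero hM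
        (Blocks.isPBlock_principalBlock (G := G) M) (y := (h : G)) (fun hr => by
          obtain ⟨k, hk⟩ := IsPGroup.iff_orderOf.1 h2 h
          rw [← orderOf_coe] at hk
          rcases Nat.eq_zero_or_pos k with rfl | hk0
          · exact hne (Subtype.ext (orderOf_eq_one_iff.1 (by rw [hk, pow_zero])))
          · exact hr (hk ▸ dvd_pow_self p hk0.ne'))
      rw [← h1, ← Finset.sum_filter]
      exact Finset.sum_congr (by ext; simp [hB]) fun ψ _ => rfl
    · exact fun h => absurd (Finset.mem_univ _) h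
  have h3 : ∑ ψ ∈ B, Cfsg.charDegree (ψ : G → ℂ) ^ 2 =
      Nat.card H * ∑ ψ ∈ B, Cfsg.charDegree (ψ : G → ℂ) * d ψ := by
    have h4 : ((∑ ψ ∈ B, Cfsg.charDegree (ψ : G → ℂ) ^ 2 : ℕ) : ℂ) =
        ((Nat.card H * ∑ ψ ∈ B, Cfsg.charDegree (ψ : G → ℂ) * d ψ : ℕ) : ℂ) := by
      rw [h1, Finset.sum_comm]
      push_cast
      rw [Finset.mul_sum]
      refine Finset.sum_congr rfl fun ψ _ => ?_
      rw [← Finset.mul_sum, hd, (CharArith.irr_degree_spec ψ).1]
      push_cast
      ring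
    exact_mod_cast h4
  have hpos : 0 < ∑ ψ ∈ B, Cfsg.charDegree (ψ : G → ℂ) ^ 2 :=
    Finset.sum_pos' (fun _ _ => Nat.zero_le _) ⟨Blocks.triv G,
      by simp [hB, Blocks.triv_mem_principalBlock hM],
      pow_pos (CharArith.irr_degree_spec _).2 2⟩
  rw [h3] at hpos ⊢
  exact Nat.le_mul_of_pos_right _ (Nat.pos_of_mul_pos_left hpos)

variable [Finite G] {H : Subgroup G}

/-- A principal block character is constant on `R w` for nontrivial `w ∈ H`. -/
theorem value_eq (h2 : IsPGroup p H) (hab : IsMulCommutative H)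
    (ih : ∀ L : Subgroup G, H ≤ L → L ≠ ⊤ →
      normalizer ((H.subgroupOf L : Subgroup L) : Set L) ⊔ Cfsg.pPrimeCore p L = ⊤)
    {R : Subgroup G} (hRodd : ¬ p ∣ Nat.card R) (hHR : H ≤ normalizer (R : Set G))
    (hfix : R ⊓ normalizer (H : Set G) = ⊥) [Fintype G] {M : Ideal Cfsg.AlgInt}
    (hM : Cfsg.IsPModular p M) {χ : Cfsg.IrrCharacter G} (hχ : χ ∈ Cfsg.principalBlock M G)
    {r w : G} (hr : r ∈ R) (hw : w ∈ H) (hwc : centralizer ({w} : Set G) ≠ ⊤) :
    (χ : G → ℂ) (r * w) = (χ : G → ℂ) w := by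
  obtain ⟨x, u, -, huR, huw, hx⟩ := exists_conj_eq h2 hab hRodd hHR hr hw
  rw [Char.classFun_isConj (Char.isClassFunction_of_isIrr χ.2)
    (isConj_iff.2 ⟨x, hx⟩ : IsConj (r * w) (w * u))]
  set C := centralizer ({w} : Set G) with hC
  have hHC : H ≤ C := fun y hy => mem_centralizer_singleton_iff.2
    (congrArg (Subtype.val : H → G) (hab.is_comm.comm ⟨y, hy⟩ ⟨w, hw⟩))
  have huC : u ∈ C := mem_centralizer_singleton_iff.2 huw.eq
  set M' := (Cfsg.pPrimeCore p C).map C.subtype with hM'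
  have huM : u ∈ M' := by
    refine mem_of_comm_mem h2 hRodd hHR hfix M' ?_ huR ?_
    · intro y hy
      refine mem_normalizer_of_forall fun z hz => ?_
      obtain ⟨z', hz', rfl⟩ := hz
      exact ⟨_, (inferInstance : (Cfsg.pPrimeCore p C).Normal).conj_mem z' hz' ⟨y, hHC hy⟩, rfl⟩
    · intro h hh
      have hu' : (⟨u, huC⟩ : C) ∈ normalizer ((H.subgroupOf C : Subgroup C) : Set C) ⊔
          Cfsg.pPrimeCore p C := (ih C hHC hwc).symm ▸ mem_top _
      obtain ⟨n, hn, o, ho, hno⟩ := mem_sup_of_normal_right.1 hu'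
      set h' : C := ⟨h, hHC hh⟩ with hh'
      set z : C := (⟨u, huC⟩ : C)⁻¹ * (h' * ⟨u, huC⟩ * h'⁻¹) with hz
      refine ⟨z, (QuotientGroup.eq_one_iff _).1 ?_, rfl⟩
      set f := QuotientGroup.mk' (Cfsg.pPrimeCore p C) with hf
      have hfu : f ⟨u, huC⟩ = f n := by
        rw [← hno, map_mul, show f o = 1 from (QuotientGroup.eq_one_iff _).2 ho, mul_one]
      have hfz : f z = f (n⁻¹ * h' * n * h'⁻¹) := by
        simp only [hz, map_mul, map_inv, hfu, mul_assoc]
      have hmem : n⁻¹ * h' * n * h'⁻¹ ∈ H.subgroupOf C := by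
        refine mul_mem ?_ (inv_mem (mem_subgroupOf.2 hh))
        simpa using (mem_normalizer_iff.1 (inv_mem hn) h').1 (mem_subgroupOf.2 hh)
      obtain ⟨j, hj⟩ := IsPGroup.iff_orderOf.1 h2 ⟨_, mem_subgroupOf.1 hmem⟩
      rw [orderOf_mk, orderOf_coe] at hj
      have hzR : (z : G) ∈ R := mul_mem (inv_mem huR) ((mem_normalizer_iff.1 (hHR hh) _).1 huR)
      show f z = 1
      refine eq_one_of_dvd (k := j) hRodd ((orderOf_map_dvd f z).trans ?_)
        (by rw [hfz, ← hj]; exact orderOf_map_dvd f _)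
      rw [← orderOf_coe, ← orderOf_mk (z : G) hzR]
      exact orderOf_dvd_natCard _
  obtain ⟨v, hv, hvu⟩ := huM
  obtain ⟨k, hk⟩ := IsPGroup.iff_orderOf.1 h2 ⟨w, hw⟩
  rw [orderOf_mk] at hk
  rw [← hvu]
  exact Invol.section_constant hM ⟨k, hk⟩ (Cfsg.pPrimeCore p C) Core.not_dvd_card_pPrimeCore hχ hv

/-- If every nontrivial element of `H` has another conjugate in `H`, some proper normal subgroup
contains `H`. -/
theorem exists_normal (h2 : IsPGroup p H) (hab : IsMulCommutative H)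
    (hec : Cfsg.IsExtremelyClosed H)
    (ih : ∀ L : Subgroup G, H ≤ L → L ≠ ⊤ →
      normalizer ((H.subgroupOf L : Subgroup L) : Set L) ⊔ Cfsg.pPrimeCore p L = ⊤)
    (hne : H ≠ ⊥)
    (hmulti : ∀ h ∈ H, h ≠ 1 → ∃ g : G, g * h * g⁻¹ ∈ H ∧ g * h * g⁻¹ ≠ h)
    (hq : 4 ≤ Nat.card H ∨ Nat.card H = 3) :
    ∃ L : Subgroup G, L.Normal ∧ L ≠ ⊤ ∧ H ≤ L := by
  classical
  by_contra hcon
  have := Fintype.ofFinite G
  have := hab
  set q := Nat.card H with hqdef
  have hq3 : 3 ≤ q := by omega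
  obtain ⟨M, hM⟩ := Blocks.exists_isPModular p hp.out
  have hB := Blocks.isPBlock_principalBlock (G := G) M
  set B := (Cfsg.principalBlock M G).toFinite.toFinset with hBdef
  have hBmem : ∀ χ, χ ∈ B ↔ χ ∈ Cfsg.principalBlock M G := fun χ => by simp [hBdef]
  choose d hd using fun χ : Cfsg.IrrCharacter G =>
    exists_natCast_mul (Char.IsIrr.isCharacter χ.2) H
  set E := (Finset.univ : Finset H).erase 1 with hE
  have hE1 : ∀ h ∈ E, (h : G) ≠ 1 := fun h hh e =>
    Finset.ne_of_mem_erase hh (Subtype.ext e)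
  have hpel : ∀ h : H, ∃ k, orderOf (h : G) = p ^ k := fun h => by
    obtain ⟨k, hk⟩ := IsPGroup.iff_orderOf.1 h2 h
    exact ⟨k, by rwa [orderOf_coe]⟩
  have heven : ∀ h ∈ E, p ∣ orderOf (h : G) := fun h hh => by
    obtain ⟨k, hk⟩ := hpel h
    rcases Nat.eq_zero_or_pos k with rfl | hk0
    · exact absurd (orderOf_eq_one_iff.1 (by rw [hk, pow_zero])) (hE1 h hh)
    · exact hk ▸ dvd_pow_self p hk0.ne'
  set n : Cfsg.IrrCharacter G → ℕ := fun χ => Cfsg.charDegree (χ : G → ℂ) with hndef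
  have hn : ∀ χ : Cfsg.IrrCharacter G, (χ : G → ℂ) 1 = (n χ : ℂ) ∧ 0 < n χ :=
    CharArith.irr_degree_spec
  set s : Cfsg.IrrCharacter G → ℝ := fun χ => (q : ℝ) * d χ - n χ with hsdef
  have hs : ∀ χ : Cfsg.IrrCharacter G, (s χ : ℂ) = ∑ h ∈ E, (χ : G → ℂ) (h : G) := fun χ => by
    rw [Finset.sum_erase_eq_sub (Finset.mem_univ _), hd, OneMemClass.coe_one, (hn χ).1]
    simp [hsdef, hqdef]
  -- orthogonality with elements of odd order
  have horth : ∀ x : G, ¬ p ∣ orderOf x →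
      ∑ χ ∈ B, (χ : G → ℂ) x * (s χ : ℂ) = 0 := by
    intro x hx
    have e : ∀ χ : Cfsg.IrrCharacter G,
        (s χ : ℂ) = ∑ h ∈ E, conj ((χ : G → ℂ) (h : G)) := fun χ => by
      rw [← map_sum, ← hs, Complex.conj_ofReal]
    simp only [e, Finset.mul_sum]
    rw [Finset.sum_comm]
    refine Finset.sum_eq_zero fun h hh => ?_
    rw [hBdef, ← finsum_mem_eq_finite_toFinset_sum _ (Set.toFinite _)]
    exact Blocks.weak_orthogonality hM hB hx (heven h hh)
  -- the class multiplication identity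
  choose R v hv hn' hRodd hHR hfix hRK using exists_twist h2 hab hec
  set D : Cfsg.IrrCharacter G → G → ℂ := fun χ a =>
    ∑ h : H, (χ : G → ℂ) (v a * h * (v a)⁻¹ * (h : G)⁻¹) with hDdef
  have hcommR : ∀ (a : G) (h : H), v a * h * (v a)⁻¹ * (h : G)⁻¹ ∈ R a := fun a h => by
    have h1 := (mem_normalizer_iff.1 (hHR a h.2) _).1 (inv_mem (hv a))
    simpa [mul_assoc] using mul_mem (hv a) h1
  have hrel : ∀ χ ∈ B, ∑ a, D χ a = (Nat.card G : ℂ) * (((q * d χ : ℕ) : ℂ) ^ 2 / (n χ : ℂ) -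
      (q : ℂ) * (((q * d χ : ℕ) : ℂ) - (n χ : ℂ))) := by
    intro χ hχ
    have hT : ∀ a, ∑ h : H, ∑ h' : H, (χ : G → ℂ) (a * h' * a⁻¹ * h) =
        (∑ h : H, (χ : G → ℂ) (v a * h * (v a)⁻¹ * (h : G)⁻¹)) +
          (q : ℂ) * (((q * d χ : ℕ) : ℂ) - (n χ : ℂ)) := by
      intro a
      set m := (v a)⁻¹ * a with hm
      let σ : H ≃ H :=
        { toFun := fun h => ⟨m * h * m⁻¹, (mem_normalizer_iff.1 (hn' a) _).1 h.2⟩
          invFun := fun h => ⟨m⁻¹ * h * m, by
            simpa [hm] using (mem_normalizer_iff.1 (inv_mem (hn' a)) _).1 h.2⟩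
          left_inv := fun h => Subtype.ext (by simp [mul_assoc])
          right_inv := fun h => Subtype.ext (by simp [mul_assoc]) }
      rw [Finset.sum_comm]
      rw [Fintype.sum_equiv σ (fun h' => ∑ h : H, (χ : G → ℂ) (a * h' * a⁻¹ * h))
        (fun k => ∑ h : H, (χ : G → ℂ) (v a * k * (v a)⁻¹ * h)) fun h' =>
          Finset.sum_congr rfl fun h _ => congrArg _ (by
            simp only [σ, Equiv.coe_fn_mk, hm]; group)]
      rw [Finset.sum_congr rfl fun k _ => (Fintype.sum_equiv (Equiv.mulLeft k)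
        (fun h : H => (χ : G → ℂ) (v a * k * (v a)⁻¹ * h))
        (fun w : H => (χ : G → ℂ) (v a * k * (v a)⁻¹ * (k : G)⁻¹ * w)) fun h => congrArg _ (by
          simp only [Equiv.coe_mulLeft, Subgroup.coe_mul]; group))]
      have hval : ∀ k : H, ∑ w ∈ E, (χ : G → ℂ) (v a * k * (v a)⁻¹ * (k : G)⁻¹ * w) =
          (s χ : ℂ) := by
        intro k
        rw [hs]
        refine Finset.sum_congr rfl fun w hw => ?_
        refine value_eq h2 hab ih (hRodd a) (hHR a) (hfix a) hM ((hBmem χ).1 hχ) ?_ w.2 ?_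
        · exact hcommR a k
        · intro hC
          obtain ⟨g, -, hg⟩ := hmulti w w.2 (hE1 w hw)
          have hg' : g ∈ centralizer ({(w : G)} : Set G) := hC ▸ mem_top g
          exact hg (mul_inv_eq_iff_eq_mul.2 (mem_centralizer_singleton_iff.1 hg'))
      have hsplit : ∀ k : H, ∑ w : H, (χ : G → ℂ) (v a * k * (v a)⁻¹ * (k : G)⁻¹ * w) =
          (χ : G → ℂ) (v a * k * (v a)⁻¹ * (k : G)⁻¹) + (s χ : ℂ) := fun k => by
        rw [← Finset.add_sum_erase _ _ (Finset.mem_univ (1 : H)), ← hE, hval k,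
          OneMemClass.coe_one, mul_one]
      rw [Finset.sum_congr rfl fun k _ => hsplit k, Finset.sum_add_distrib, Finset.sum_const,
        Finset.card_univ, nsmul_eq_mul, ← Nat.card_eq_fintype_card]
      simp [hsdef, hqdef]
    have hsum := congrArg (fun f : G → ℂ => ∑ a, f a) (funext hT)
    simp only [Finset.sum_add_distrib, Finset.sum_const, Finset.card_univ, nsmul_eq_mul,
      ← Nat.card_eq_fintype_card] at hsum
    rw [Finset.sum_comm, Finset.sum_congr rfl fun h _ => Finset.sum_comm] at hsum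
    have hcm : (n χ : ℂ) * ∑ h : H, ∑ h' : H, ∑ a : G, (χ : G → ℂ) (a * h' * a⁻¹ * h) =
        (Nat.card G : ℂ) * ((q * d χ : ℕ) : ℂ) ^ 2 := by
      rw [← (hn χ).1, Finset.mul_sum, sq, hqdef, ← hd χ, Finset.sum_mul_sum, Finset.mul_sum]
      refine Finset.sum_congr rfl fun h _ => ?_
      rw [Finset.mul_sum, Finset.mul_sum]
      refine Finset.sum_congr rfl fun h' _ => ?_
      rw [CharArith.classMult χ.2]
      ring
    rw [hsum] at hcm
    simp only [hDdef]
    have hn0 : (n χ : ℂ) ≠ 0 := Nat.cast_ne_zero.2 (hn χ).2.ne'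
    field_simp
    linear_combination hcm
  set f : Cfsg.IrrCharacter G → ℝ := fun χ =>
    s χ ^ 2 / n χ - ((q : ℝ) - 2) * s χ + n χ with hfdef
  have hDre : ∀ χ, χ ∈ B → ∑ a, D χ a = ((Nat.card G : ℝ) * f χ : ℝ) := by
    intro χ hχ
    rw [hrel χ hχ]
    have hn0 : (n χ : ℂ) ≠ 0 := Nat.cast_ne_zero.2 (hn χ).2.ne'
    simp only [hfdef, hsdef]
    push_cast
    field_simp
    ring
  -- the bound
  have hbound : ∀ χ ∈ B, χ ≠ Blocks.triv G → s χ ≤ n χ := by
    intro χ hχ hne'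
    have hn1 : (0 : ℝ) < n χ := Nat.cast_pos.2 (hn χ).2
    have hSre : (∑ h : H, (χ : G → ℂ) h).re = (q : ℝ) * d χ := by
      rw [hd, Complex.natCast_re]; push_cast; rw [hqdef]
    have h1 : (Nat.card G : ℝ) * (2 * ((q : ℝ) * d χ) - q * n χ) ≤ (Nat.card G : ℝ) * f χ := by
      have h3 : (∑ a, D χ a).re = (Nat.card G : ℝ) * f χ := by
        rw [hDre χ hχ, Complex.ofReal_re]
      rw [← h3, Complex.re_sum, Nat.card_eq_fintype_card (α := G), ← nsmul_eq_mul,
        ← Finset.card_univ, ← Finset.sum_const]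
      refine Finset.sum_le_sum fun a _ => ?_
      have hc : 2 * (∑ h : H, (χ : G → ℂ) h).re - (Nat.card H : ℝ) * ((χ : G → ℂ) 1).re ≤
          (D χ a).re := comm_sum_ge χ.2 H (v a)
      rw [hSre, (hn χ).1, Complex.natCast_re] at hc
      rw [hqdef] at hc ⊢
      exact hc
    have h2' := le_of_mul_le_mul_left h1 (Nat.cast_pos.2 Nat.card_pos)
    have hlt : d χ < n χ := by
      by_contra hge
      push Not at hge
      have hle : ((q * d χ : ℕ) : ℝ) ≤ (q : ℝ) * n χ := by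
        rw [hqdef, ← Complex.natCast_re, ← hd χ, Complex.re_sum]
        calc ∑ h : H, ((χ : G → ℂ) h).re ≤ ∑ _h : H, ((χ : G → ℂ) 1).re :=
              Finset.sum_le_sum fun h _ => (Complex.re_le_norm _).trans
                (Char.IsChar.norm_le (Char.IsIrr.isCharacter χ.2) _)
          _ = _ := by
              rw [Finset.sum_const, Finset.card_univ, nsmul_eq_mul, (hn χ).1,
                Complex.natCast_re, Nat.card_eq_fintype_card]
      have heq : d χ = n χ := le_antisymm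
        (Nat.le_of_mul_le_mul_left (by exact_mod_cast hle) (by omega : 0 < q)) hge
      refine hcon ⟨Char.kerSubgroup (Char.IsIrr.isCharacter χ.2), inferInstance, fun htop =>
        hne' (Subtype.ext (Invol.irr_eq_one_of_const χ fun g =>
          ((htop ▸ mem_top g :) : g ∈ Char.kerSubgroup (Char.IsIrr.isCharacter χ.2)))), ?_⟩
      intro h hh
      refine (Char.mem_kerSubgroup _).2
        (Blocks.char_eq_degree_of_sum_eq (Char.IsIrr.isCharacter χ.2) H ?_ hh)
      rw [Finset.sum_subtype (p := fun y => y ∈ H) _ (fun y => by simp), hd, heq, (hn χ).1]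
      push_cast
      rfl
    have hlt' : (q : ℝ) * d χ < q * n χ :=
      mul_lt_mul_of_pos_left (Nat.cast_lt.2 hlt) (by exact_mod_cast (by omega : 0 < q))
    have h3 : ((q : ℝ) * d χ - q * n χ) * ((q : ℝ) * d χ - 2 * n χ) ≥ 0 := by
      simp only [hfdef, hsdef] at h2'
      field_simp at h2'
      nlinarith
    simp only [hsdef]
    nlinarith
  -- summation over the block
  have hzero : ∑ χ ∈ B, f χ * s χ = 0 := by
    have h1 : ∑ χ ∈ B, (∑ a, D χ a) * (s χ : ℂ) = 0 := by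
      simp only [Finset.sum_mul]
      rw [Finset.sum_comm]
      refine Finset.sum_eq_zero fun a _ => ?_
      simp only [hDdef, Finset.sum_mul]
      rw [Finset.sum_comm]
      refine Finset.sum_eq_zero fun h _ => horth _ fun hdvd => hRodd a (hdvd.trans ?_)
      exact orderOf_mk _ (hcommR a h) ▸ orderOf_dvd_natCard (⟨_, hcommR a h⟩ : R a)
    rw [Finset.sum_congr rfl fun χ hχ => by rw [hDre χ hχ]] at h1
    simp only [← Complex.ofReal_mul, ← Complex.ofReal_sum, Complex.ofReal_eq_zero, mul_assoc,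
      ← Finset.mul_sum] at h1
    exact (mul_eq_zero.1 h1).resolve_left (Nat.cast_ne_zero.2 Nat.card_pos.ne')
  have hns : ∑ χ ∈ B, (n χ : ℝ) * s χ = 0 := by
    have h1 := horth 1 (by simp [hp.out.ne_one])
    simp only [(hn _).1] at h1
    exact_mod_cast h1
  have hcube : ∑ χ ∈ B, s χ ^ 2 * ((q : ℝ) - 2 - s χ / n χ) = 0 := by
    have h1 : ∀ χ : Cfsg.IrrCharacter G,
        s χ ^ 2 * ((q : ℝ) - 2 - s χ / n χ) = (n χ : ℝ) * s χ - f χ * s χ := fun χ => by
      simp only [hfdef]; ring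
    simp only [h1, Finset.sum_sub_distrib, hns, hzero, sub_zero]
  -- the norms
  have hnorm : 2 * (q : ℝ) * ((q : ℝ) - 1) ≤ ∑ χ ∈ B, s χ ^ 2 := by
    have h1 : ((∑ χ ∈ B, s χ ^ 2 : ℝ) : ℂ) = ∑ h ∈ E, ∑ h' ∈ E,
        ∑ χ ∈ B, (χ : G → ℂ) (h : G) * conj ((χ : G → ℂ) (h' : G)) := by
      rw [Complex.ofReal_sum, Finset.sum_congr rfl fun h _ => Finset.sum_comm, Finset.sum_comm]
      refine Finset.sum_congr rfl fun χ _ => ?_
      rw [sq, Complex.ofReal_mul]
      nth_rw 2 [← Complex.conj_ofReal]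
      rw [hs, map_sum, Finset.sum_mul_sum]
    set N : H → ℕ := fun h => ∑ᶠ ψ ∈ Cfsg.principalBlock M ↥(centralizer ({(h : G)} : Set G)),
      Cfsg.charDegree (ψ : ↥(centralizer ({(h : G)} : Set G)) → ℂ) ^ 2 with hN
    have h2' : ∀ h ∈ E, ∀ h' ∈ E, ∑ χ ∈ B, (χ : G → ℂ) (h : G) * conj ((χ : G → ℂ) (h' : G)) =
        ((if IsConj (h : G) (h' : G) then N h else 0 : ℕ) : ℂ) := by
      intro h _ h' _
      rw [hBdef, ← finsum_mem_eq_finite_toFinset_sum _ (Set.toFinite _)]
      split_ifs with hc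
      · rw [hN, ← Blocks.principal_column_self hM (hpel h)]
        refine finsum_mem_congr rfl fun χ _ => ?_
        rw [Char.classFun_isConj (Char.isClassFunction_of_isIrr χ.2) hc]
      · rw [Nat.cast_zero]
        exact Blocks.block_column_zero hM hB (hpel h') (hpel h) hc
    rw [Finset.sum_congr rfl fun h hh => Finset.sum_congr rfl (h2' h hh)] at h1
    have h3 : ∀ h ∈ E, 2 * q ≤ ∑ h' ∈ E, if IsConj (h : G) (h' : G) then N h else 0 := by
      intro h hh
      rw [← Finset.sum_filter, Finset.sum_const, smul_eq_mul]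
      have hN' : q ≤ N h := by
        have hHC : H ≤ centralizer ({(h : G)} : Set G) := fun y hy =>
          mem_centralizer_singleton_iff.2
            (congrArg (Subtype.val : H → G) (hab.is_comm.comm ⟨y, hy⟩ h))
        rw [hqdef, ← Nat.card_congr (subgroupOfEquivOfLe hHC).toEquiv]
        have := Fintype.ofFinite ↥(centralizer ({(h : G)} : Set G))
        exact card_le_degree_sq hM _ h2.comap_subtype
      refine Nat.mul_le_mul ?_ hN'
      obtain ⟨g, hg, hgne⟩ := hmulti h h.2 (hE1 h hh)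
      refine Finset.one_lt_card.2 ⟨h, Finset.mem_filter.2 ⟨hh, IsConj.refl _⟩, ⟨_, hg⟩,
        Finset.mem_filter.2 ⟨Finset.mem_erase.2 ⟨fun e => ?_, Finset.mem_univ _⟩,
          isConj_iff.2 ⟨g, rfl⟩⟩, fun e => hgne (congrArg Subtype.val e).symm⟩
      exact hE1 h hh (conj_eq_one_iff.1 (congrArg Subtype.val e))
    have h4 : 2 * q * (q - 1) ≤ ∑ h ∈ E, ∑ h' ∈ E, if IsConj (h : G) (h' : G) then N h else 0 := by
      refine le_trans (le_of_eq ?_) (Finset.sum_le_sum h3)
      rw [Finset.sum_const, smul_eq_mul, hE, Finset.card_erase_of_mem (Finset.mem_univ _),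
        Finset.card_univ, ← Nat.card_eq_fintype_card, mul_comm]
    have h5 : (∑ χ ∈ B, s χ ^ 2 : ℝ) =
        ((∑ h ∈ E, ∑ h' ∈ E, if IsConj (h : G) (h' : G) then N h else 0 : ℕ) : ℝ) := by
      apply Complex.ofReal_injective
      rw [h1, Complex.ofReal_natCast]
      push_cast
      exact Finset.sum_congr rfl fun h _ => Finset.sum_congr rfl fun h' _ => by split_ifs <;> simp
    rw [h5]
    refine le_trans ?_ (Nat.cast_le.2 h4)
    rw [Nat.cast_mul, Nat.cast_mul, Nat.cast_sub (by omega)]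
    push_cast
    rfl
  have htriv : Blocks.triv G ∈ B := (hBmem _).2 (Blocks.triv_mem_principalBlock hM)
  have hdt : s (Blocks.triv G) = (q : ℝ) - 1 ∧ (n (Blocks.triv G) : ℝ) = 1 := by
    have h1 := hs (Blocks.triv G)
    have h0 := (hn (Blocks.triv G)).1
    simp only [Blocks.triv, Finset.sum_const, hE, Finset.card_erase_of_mem (Finset.mem_univ _),
      Finset.card_univ, nsmul_eq_mul, mul_one, ← Nat.card_eq_fintype_card, ← hqdef,
      Nat.cast_sub (by omega : 1 ≤ q)] at h1 h0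
    refine ⟨?_, ?_⟩
    · exact_mod_cast h1
    · exact_mod_cast h0.symm
  rw [← Finset.add_sum_erase _ _ htriv, hdt.1, hdt.2] at hcube
  rw [← Finset.add_sum_erase _ _ htriv, hdt.1] at hnorm
  have h1 : ((q : ℝ) - 3) * ∑ χ ∈ B.erase (Blocks.triv G), s χ ^ 2 ≤
      ∑ χ ∈ B.erase (Blocks.triv G), s χ ^ 2 * ((q : ℝ) - 2 - s χ / n χ) := by
    rw [Finset.mul_sum]
    refine Finset.sum_le_sum fun χ hχ => ?_
    have hb := hbound χ (Finset.mem_of_mem_erase hχ) (Finset.ne_of_mem_erase hχ)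
    have : s χ / n χ ≤ 1 := (div_le_one (Nat.cast_pos.2 (hn χ).2)).2 hb
    nlinarith [sq_nonneg (s χ)]
  rcases hq with hq4 | hq3'
  · have hq4' : (4 : ℝ) ≤ q := by exact_mod_cast hq4
    nlinarith
  -- `|H| = 3`
  have hq' : (q : ℝ) = 3 := by exact_mod_cast hq3'
  rw [hq'] at hcube
  have hEs : ∀ h ∈ E, ∀ h' ∈ E, IsConj (h : G) (h' : G) := by
    intro h hh h' hh'
    obtain ⟨g, hg, hgne⟩ := hmulti h h.2 (hE1 h hh)
    by_contra hnc
    have hk : (⟨_, hg⟩ : H) ∈ E := Finset.mem_erase.2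
      ⟨fun e => hE1 h hh (conj_eq_one_iff.1 (congrArg Subtype.val e)), Finset.mem_univ _⟩
    have hsub : ({h, h', ⟨_, hg⟩} : Finset H) ⊆ E := by
      simp only [Finset.insert_subset_iff, Finset.singleton_subset_iff]
      exact ⟨hh, hh', hk⟩
    have hc := Finset.card_le_card hsub
    rw [Finset.card_eq_three.2 ⟨h, h', ⟨_, hg⟩, fun e => hnc (e ▸ IsConj.refl _),
      fun e => hgne (congrArg Subtype.val e).symm,
      fun e => hnc (isConj_iff.2 ⟨g, (congrArg Subtype.val e).symm⟩), rfl⟩,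
      hE, Finset.card_erase_of_mem (Finset.mem_univ _), Finset.card_univ,
      ← Nat.card_eq_fintype_card] at hc
    omega
  have hint : ∀ χ : Cfsg.IrrCharacter G, ∃ k : ℤ, s χ = 2 * k := by
    intro χ
    obtain ⟨h₀, hh₀⟩ : E.Nonempty := Finset.card_pos.1 (by
      rw [hE, Finset.card_erase_of_mem (Finset.mem_univ _), Finset.card_univ,
        ← Nat.card_eq_fintype_card]
      omega)
    have h2 : (s χ : ℂ) = 2 * (χ : G → ℂ) (h₀ : G) := by
      rw [hs, Finset.sum_congr rfl fun h hh => Char.classFun_isConj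
        (Char.isClassFunction_of_isIrr χ.2) (hEs h hh h₀ hh₀), Finset.sum_const, hE,
        Finset.card_erase_of_mem (Finset.mem_univ _), Finset.card_univ,
        ← Nat.card_eq_fintype_card, ← hqdef, hq3']
      simp
    have hχ : (χ : G → ℂ) (h₀ : G) = algebraMap ℚ ℂ (((q : ℚ) * d χ - n χ) / 2) := by
      have h3 : (s χ : ℂ) = (q : ℂ) * d χ - n χ := by simp [hsdef]
      rw [h3] at h2
      rw [map_div₀, map_sub, map_mul, map_natCast, map_natCast, map_natCast, h2]
      simp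
    obtain ⟨k, hk⟩ := IsIntegrallyClosed.isIntegral_iff.1
      ((isIntegral_algebraMap_iff (algebraMap ℚ ℂ).injective).1
        (hχ ▸ Char.IsChar.isIntegral (Char.IsIrr.isCharacter χ.2) (h₀ : G)))
    refine ⟨k, ?_⟩
    have hk' : ((k : ℤ) : ℚ) = ((q : ℚ) * d χ - n χ) / 2 := by simpa using hk
    have h4 := congrArg (fun x : ℚ => (x : ℝ)) hk'
    push_cast at h4
    simp only [hsdef]
    linarith
  obtain ⟨χ, hχ, hneg⟩ : ∃ χ ∈ B.erase (Blocks.triv G), s χ < 0 := by
    by_contra! hnn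
    rw [← Finset.add_sum_erase _ _ htriv, hdt.1, hdt.2, hq'] at hns
    have := Finset.sum_nonneg fun χ (hχ : χ ∈ B.erase (Blocks.triv G)) =>
      mul_nonneg (Nat.cast_nonneg (α := ℝ) (n χ)) (hnn χ hχ)
    linarith
  obtain ⟨k, hk⟩ := hint χ
  have hk1 : (k : ℝ) ≤ -1 := by
    have : (k : ℝ) < 0 := by linarith
    have hk0 : k < 0 := by exact_mod_cast this
    exact_mod_cast (by omega : k ≤ -1)
  have hterm : 4 < s χ ^ 2 * ((3 : ℝ) - 2 - s χ / n χ) := by
    have h1 : s χ / n χ < 0 := div_neg_of_neg_of_pos hneg (Nat.cast_pos.2 (hn χ).2)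
    have h2 : 4 ≤ s χ ^ 2 := by rw [hk]; nlinarith
    nlinarith
  have hle := Finset.single_le_sum (s := B.erase (Blocks.triv G))
    (f := fun χ => s χ ^ 2 * ((3 : ℝ) - 2 - s χ / n χ)) (fun χ hχ => by
      have hb := hbound χ (Finset.mem_of_mem_erase hχ) (Finset.ne_of_mem_erase hχ)
      have : s χ / n χ ≤ 1 := (div_le_one (Nat.cast_pos.2 (hn χ).2)).2 hb
      have h0 := sq_nonneg (s χ)
      nlinarith) hχ
  nlinarith

/-- A proper normal subgroup containing `H` gives the factorisation. -/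
theorem of_normal (h2 : IsPGroup p H) (hab : IsMulCommutative H) (hec : Cfsg.IsExtremelyClosed H)
    {L : Subgroup G} [hL : L.Normal] (hHL : H ≤ L)
    (ih : normalizer ((H.subgroupOf L : Subgroup L) : Set L) ⊔ Cfsg.pPrimeCore p L = ⊤) :
    normalizer (H : Set G) ⊔ Cfsg.pPrimeCore p G = ⊤ := by
  refine eq_top_iff.2 fun a _ => ?_
  obtain ⟨R, v, hv, hn, -, -, -, hRK⟩ := exists_twist h2 hab hec a
  have hKL : H ⊔ H.map (MulAut.conj a).toMonoidHom ≤ L := by
    refine sup_le hHL ?_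
    rintro _ ⟨x, hx, rfl⟩
    exact hL.conj_mem x (hHL hx) a
  have h1 : v ∈ (⊤ : Subgroup L).map L.subtype := by
    rw [← MonoidHom.range_eq_map, range_subtype]; exact hKL (hRK hv)
  rw [← ih, Subgroup.map_sup, Core.map_pPrimeCore_normal] at h1
  have hle : (normalizer ((H.subgroupOf L : Subgroup L) : Set L)).map L.subtype ≤
      normalizer (H : Set G) := by
    rintro _ ⟨x, hx, rfl⟩
    refine mem_normalizer_of_forall fun y hy => ?_
    exact mem_subgroupOf.1 ((mem_normalizer_iff.1 hx ⟨y, hHL hy⟩).1 (mem_subgroupOf.2 hy))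
  have h2 : v ∈ normalizer (H : Set G) ⊔ Cfsg.pPrimeCore p G :=
    (sup_le_sup hle (inf_le_left : Cfsg.pPrimeCore p G ⊓ L ≤ Cfsg.pPrimeCore p G)) h1
  have h3 := mul_mem h2 (mem_sup_left (T := Cfsg.pPrimeCore p G) hn)
  rwa [mul_inv_cancel_left] at h3

/-- A central element of order `p` in `H`: pass to the quotient. -/
theorem of_central {t : G} (ht : orderOf t = p) (htH : t ∈ H) (htc : t ∈ center G)
    (ih : ∀ [(zpowers t).Normal], normalizer ((H.map (QuotientGroup.mk' (zpowers t)) :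
        Subgroup (G ⧸ zpowers t)) : Set (G ⧸ zpowers t)) ⊔ Cfsg.pPrimeCore p (G ⧸ zpowers t) = ⊤) :
    normalizer (H : Set G) ⊔ Cfsg.pPrimeCore p G = ⊤ := by
  set Z := zpowers t with hZ
  have hZc : Z ≤ center G := zpowers_le.2 htc
  have hZn : Z.Normal := ⟨fun n hn g => by
    rw [mem_center_iff.1 (hZc hn) g, mul_inv_cancel_right]; exact hn⟩
  have ih := ih
  set f := QuotientGroup.mk' Z with hf
  have hker : f.ker ≤ H := by rw [hf, QuotientGroup.ker_mk']; exact zpowers_le.2 htH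
  set K := (Cfsg.pPrimeCore p (G ⧸ Z)).comap f with hK
  have : K.Normal := Subgroup.Normal.comap inferInstance f
  have hZK : Z ≤ K := fun x hx => by
    rw [hK, mem_comap, hf, QuotientGroup.mk'_apply, (QuotientGroup.eq_one_iff x).2 hx]
    exact one_mem _
  set ZK := Z.subgroupOf K with hZKdef
  have hidx : ¬ p ∣ ZK.index := by
    have h1 : ZK.index = Nat.card (Cfsg.pPrimeCore p (G ⧸ Z)) := by
      have h2 := relIndex_comap (⊥ : Subgroup (G ⧸ Z)) f K
      rw [MonoidHom.comap_bot, hf, QuotientGroup.ker_mk', ← hf, hK,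
        map_comap_eq_self_of_surjective (QuotientGroup.mk'_surjective Z), relIndex_bot_left] at h2
      exact h2
    rw [h1]
    exact Core.not_dvd_card_pPrimeCore
  have hZp : IsPGroup p ZK :=
    (IsPGroup.of_card (n := 1) (show Nat.card Z = p ^ 1 by
      rw [hZ, Nat.card_zpowers, ht, pow_one])).comap_subtype
  set P := hZp.toSylow hidx with hP
  have hPc : normalizer ((P : Subgroup K) : Set K) ≤ centralizer ((P : Subgroup K) : Set K) :=
    fun x _ => mem_centralizer_iff.2 fun y hy => Subtype.ext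
      (mem_center_iff.1 (hZc (mem_subgroupOf.1 ((IsPGroup.mem_toSylow hZp hidx).1 hy))) x).symm
  set R := (MonoidHom.transferSylow P hPc).ker with hR
  have hcomp := MonoidHom.ker_transferSylow_isComplement' P hPc
  have hRO : R.map K.subtype ≤ Cfsg.pPrimeCore p G := by
    refine le_trans (map_mono (Core.le_pPrimeCore ((hp.out.coprime_iff_not_dvd.2
      (MonoidHom.not_dvd_card_ker_transferSylow P hPc)).symm))) ?_
    rw [Core.map_pPrimeCore_normal]
    exact inf_le_left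
  refine eq_top_iff.2 fun a _ => ?_
  have ha : f a ∈ normalizer ((H.map f : Subgroup (G ⧸ Z)) : Set (G ⧸ Z)) ⊔
      Cfsg.pPrimeCore p (G ⧸ Z) := ih.symm ▸ mem_top _
  obtain ⟨n', hn', o', ho', hno⟩ := mem_sup_of_normal_right.1 ha
  obtain ⟨n, rfl⟩ := QuotientGroup.mk'_surjective Z n'
  have hnN : n ∈ normalizer (H : Set G) := by
    refine mem_normalizer_of_forall fun y hy => ?_
    have h1 := (mem_normalizer_iff.1 hn' (f y)).1 (mem_map_of_mem f hy)
    rw [← map_inv, ← map_mul, ← map_mul] at h1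
    have h2 : n * y * n⁻¹ ∈ (H.map f).comap f := h1
    rwa [comap_map_eq, sup_eq_left.2 hker] at h2
  have hmK : n⁻¹ * a ∈ K := by
    rw [hK, mem_comap, map_mul, map_inv, ← hno, inv_mul_cancel_left]
    exact ho'
  obtain ⟨⟨r, y⟩, hrp⟩ := hcomp.2 ⟨_, hmK⟩
  have hm : n⁻¹ * a ∈ normalizer (H : Set G) ⊔ Cfsg.pPrimeCore p G := by
    have e : ((r : K) : G) * ((y : K) : G) = n⁻¹ * a := congrArg Subtype.val hrp
    rw [← e]
    refine mul_mem (mem_sup_right (hRO ⟨_, r.2, rfl⟩)) (mem_sup_left (le_normalizer ?_))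
    exact hker (by
      rw [hf, QuotientGroup.ker_mk']
      exact mem_subgroupOf.1 ((IsPGroup.mem_toSylow hZp hidx).1 y.2))
  have h3 := mul_mem (mem_sup_left (T := Cfsg.pPrimeCore p G) hnN) hm
  rwa [mul_inv_cancel_left] at h3

/-- If `G = O_{p'}(G) C` the factorisation in `C` gives the one in `G`. -/
theorem of_factor {C : Subgroup G} (hHC : H ≤ C)
    (hdec : ∀ a : G, ∃ o ∈ Cfsg.pPrimeCore p G, o * a ∈ C)
    (ih : normalizer ((H.subgroupOf C : Subgroup C) : Set C) ⊔ Cfsg.pPrimeCore p C = ⊤) :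
    normalizer (H : Set G) ⊔ Cfsg.pPrimeCore p G = ⊤ := by
  set O := Cfsg.pPrimeCore p G with hO
  set f := QuotientGroup.mk' O with hf
  have hsurj : Function.Surjective (f.comp C.subtype) := by
    intro y
    obtain ⟨a, rfl⟩ := QuotientGroup.mk'_surjective O y
    obtain ⟨o, ho, hoa⟩ := hdec a
    refine ⟨⟨_, hoa⟩, ?_⟩
    simp only [MonoidHom.comp_apply, subtype_apply, map_mul]
    rw [show f o = 1 from (QuotientGroup.eq_one_iff _).2 ho, one_mul]
  have hOC : (Cfsg.pPrimeCore p C).map C.subtype ≤ O := by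
    have h := Core.map_pPrimeCore_le_of_surjective (p := p) hsurj
    have hQ : Cfsg.pPrimeCore p (G ⧸ O) = ⊥ := Core.pPrimeCore_quotient_eq_bot
    rw [hQ, le_bot_iff, ← map_map, Subgroup.map_eq_bot_iff, QuotientGroup.ker_mk'] at h
    exact h
  refine eq_top_iff.2 fun a _ => ?_
  obtain ⟨o, ho, hoa⟩ := hdec a
  have h1 : o * a ∈ (⊤ : Subgroup C).map C.subtype := ⟨⟨_, hoa⟩, mem_top _, rfl⟩
  rw [← ih, Subgroup.map_sup] at h1
  have hle : (normalizer ((H.subgroupOf C : Subgroup C) : Set C)).map C.subtype ≤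
      normalizer (H : Set G) := by
    rintro _ ⟨x, hx, rfl⟩
    refine mem_normalizer_of_forall fun y hy => ?_
    exact mem_subgroupOf.1 ((mem_normalizer_iff.1 hx ⟨y, hHC hy⟩).1 (mem_subgroupOf.2 hy))
  have h2 : o * a ∈ normalizer (H : Set G) ⊔ O := (sup_le_sup hle hOC) h1
  have h3 := mul_mem (mem_sup_right (S := normalizer (H : Set G)) (inv_mem ho)) h2
  rwa [inv_mul_cancel_left] at h3

end Cfsg.Agent.ExtClosedTwo
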