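import Cfsg.Agent.BlockThms.SecondMainIdem

/-!
# Positivity of the kernel `χ (x⁻¹ y)` and a bound for sums over commutators
-/

namespace Cfsg.Agent.ExtClosedTwo

open scoped ComplexConjugate
open Cfsg.Agent Cfsg.Agent.Blocks

universe u

variable {G : Type u} [Group G] [Fintype G] {χ : G → ℂ}

theorem sum_conj_mul (hχ : Cfsg.IsIrrCharacter G χ) (z : G) :
    ∑ k, conj (χ k) * χ (k * z) = (Nat.card G : ℂ) / χ 1 * χ z := by
  have hc : Cfsg.IsClassFunction G (fun k => conj (χ k)) := fun g h => by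
    show conj (χ _) = conj (χ _)
    rw [Char.isClassFunction_of_isIrr hχ g h]
  rw [BlockThms.sum_mul_char_mul hχ hc z, Blocks.omega]
  have h := Char.classInner_irr_self hχ
  rw [Cfsg.classInner, inv_mul_eq_one₀ Char.card_ne_zero] at h
  congr 2
  rw [h]
  exact Finset.sum_congr rfl fun k _ => mul_comm _ _

/-- `χ (x⁻¹ y)` is a positive semidefinite kernel. -/
theorem kernel_nonneg (hχ : Cfsg.IsIrrCharacter G χ) {ι : Type*} [Fintype ι] (c : ι → ℝ)
    (g : ι → G) : 0 ≤ (∑ i, ∑ j, (c i : ℂ) * (c j : ℂ) * χ ((g i)⁻¹ * g j)).re := by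
  obtain ⟨n, hn0, hn⟩ := Char.IsIrr.degree hχ
  set W : G → ℂ := fun a => ∑ i, (c i : ℂ) * χ (a⁻¹ * g i) with hW
  have key : ∀ x y : G, ∑ a, conj (χ (a⁻¹ * x)) * χ (a⁻¹ * y) =
      (Nat.card G : ℂ) / χ 1 * χ (x⁻¹ * y) := fun x y => by
    rw [← sum_conj_mul hχ]
    refine Fintype.sum_equiv ((Equiv.inv G).trans (Equiv.mulRight x)) _ _ fun a => ?_
    simp [mul_assoc]
  have h1 : ∑ a, conj (W a) * W a = (Nat.card G : ℂ) / χ 1 *
      ∑ i, ∑ j, (c i : ℂ) * (c j : ℂ) * χ ((g i)⁻¹ * g j) := by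
    simp only [hW, map_sum, map_mul, Complex.conj_ofReal, Finset.sum_mul_sum]
    rw [Finset.sum_comm, Finset.mul_sum]
    refine Finset.sum_congr rfl fun i _ => ?_
    rw [Finset.sum_comm, Finset.mul_sum]
    refine Finset.sum_congr rfl fun j _ => ?_
    rw [← mul_assoc _ _ (χ _), mul_comm _ ((c i : ℂ) * (c j : ℂ)), mul_assoc, ← key,
      Finset.mul_sum]
    exact Finset.sum_congr rfl fun a _ => by ring
  have h2 : 0 ≤ (∑ a, conj (W a) * W a).re := by
    rw [Complex.re_sum]
    exact Finset.sum_nonneg fun a _ => by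
      simp only [Complex.mul_re, Complex.conj_re, Complex.conj_im]
      nlinarith [sq_nonneg (W a).re, sq_nonneg (W a).im]
  rw [h1, hn, show (Nat.card G : ℂ) / (n : ℂ) = (((Nat.card G : ℝ) / n : ℝ) : ℂ) by push_cast; rfl,
    Complex.re_ofReal_mul] at h2
  exact (mul_nonneg_iff_of_pos_left (div_pos (Nat.cast_pos.2 Nat.card_pos)
    (Nat.cast_pos.2 hn0))).1 h2

/-- For an abelian subgroup `H` the sum of `χ [v, h]` over `h ∈ H` is at least twice the sum of
`χ h` minus `|H| χ 1`. -/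
theorem comm_sum_ge (hχ : Cfsg.IsIrrCharacter G χ) (H : Subgroup G) [Fintype H]
    [hab : IsMulCommutative H] (v : G) :
    2 * (∑ h : H, χ h).re - (Nat.card H : ℝ) * (χ 1).re ≤
      (∑ h : H, χ (v * h * v⁻¹ * (h : G)⁻¹)).re := by
  classical
  have hcf := Char.isClassFunction_of_isIrr hχ
  have hcomm : ∀ a b : H, a * b = b * a := hab.is_comm.comm
  set F : H → H → ℂ := fun m l => χ (v * m * v⁻¹ * (l : G)) with hF
  set q : ℝ := (Nat.card H : ℝ) with hq
  have hqc : (Fintype.card H : ℂ) = (q : ℂ) := by rw [hq, Nat.card_eq_fintype_card]; push_cast; rfl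
  set w : H → ℂ := fun h => (q : ℂ) * (if h = 1 then 1 else 0) - 1 with hw
  have hwsum : ∑ h, w h = 0 := by
    simp [hw, Finset.sum_sub_distrib, hqc]
  have hauto : ∀ m : H, ∑ h, w h * w (h * m) = (q : ℂ) * w m := by
    intro m
    have e : ∀ h, w h * w (h * m) =
        (q : ℂ) * (if h = 1 then w (h * m) else 0) - w (h * m) := fun h => by
      simp only [hw]; split_ifs <;> ring
    rw [Finset.sum_congr rfl fun h _ => e h, Finset.sum_sub_distrib, ← Finset.mul_sum,
      Finset.sum_ite_eq' Finset.univ (1 : H),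
      show ∑ x, w (x * m) = ∑ x, w x from
        Fintype.sum_equiv (Equiv.mulRight m) _ _ fun _ => rfl, hwsum]
    simp
  have hnn : ∀ (c : H → H → ℝ),
      0 ≤ (∑ m, ∑ l, F m l * ∑ h, ∑ k, (c h k : ℂ) * (c (h * m) (k * l) : ℂ)).re := by
    intro c
    have h0 := kernel_nonneg hχ (fun i : H × H => c i.1 i.2)
      (fun i : H × H => (i.1 : G) * v⁻¹ * (i.2 : G))
    refine le_of_le_of_eq h0 (congrArg Complex.re ?_)
    simp only [Fintype.sum_prod_type, Finset.mul_sum]
    symm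
    rw [Finset.sum_congr rfl fun m _ => Finset.sum_comm, Finset.sum_comm]
    refine Finset.sum_congr rfl fun h _ => ?_
    rw [Finset.sum_congr rfl fun m _ => Finset.sum_comm, Finset.sum_comm]
    refine Finset.sum_congr rfl fun k _ => ?_
    refine Fintype.sum_equiv (Equiv.mulLeft h) _ _ fun m => ?_
    refine Fintype.sum_equiv (Equiv.mulLeft k) _ _ fun l => ?_
    simp only [Equiv.coe_mulLeft, hF, Subgroup.coe_mul]
    have e : ((h : G) * v⁻¹ * (k : G))⁻¹ * ((h : G) * (m : G) * v⁻¹ * ((k : G) * (l : G))) =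
        (k : G)⁻¹ * ((v * m * v⁻¹) * (l : G)) * (k : G) := by
      have hkl : (k : G) * (l : G) = (l : G) * (k : G) := congrArg Subtype.val (hcomm k l)
      rw [hkl]; group
    rw [e, show (k : G)⁻¹ * ((v * m * v⁻¹) * (l : G)) * (k : G) =
      (k : G)⁻¹ * ((v * m * v⁻¹) * (l : G)) * ((k : G)⁻¹)⁻¹ by rw [inv_inv],
      hcf _ (k : G)⁻¹]
    ring
  have hwr : ∀ h, w h = (((q * (if h = 1 then 1 else 0) - 1 : ℝ)) : ℂ) := fun h => by
    simp only [hw]; split_ifs <;> push_cast <;> ring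
  set S := ∑ h : H, χ h with hS
  set T := ∑ m, ∑ l, F m l with hT
  set D := ∑ h : H, χ (v * h * v⁻¹ * (h : G)⁻¹) with hD
  have hFm : ∀ m, F m 1 = χ m := fun m => by
    simp only [hF, OneMemClass.coe_one, mul_one]; exact hcf _ v
  have hFl : ∀ l, F 1 l = χ l := fun l => by simp [hF]
  -- first vector
  have e1 : ∑ m, ∑ l, F m l * ∑ h, ∑ k, (w h * w k) * (w (h * m) * w (k * l)) =
      (q : ℂ) ^ 2 * ((q : ℂ) ^ 2 * χ 1 - 2 * (q : ℂ) * S + T) := by
    have e : ∀ m l, F m l * ∑ h, ∑ k, (w h * w k) * (w (h * m) * w (k * l)) =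
        (q : ℂ) ^ 2 * (((q : ℂ) ^ 2 * (if m = 1 then (if l = 1 then F m l else 0) else 0)
          - (q : ℂ) * (if m = 1 then F m l else 0) - (q : ℂ) * (if l = 1 then F m l else 0))
          + F m l) := by
      intro m l
      have h2 : ∑ h, ∑ k, (w h * w k) * (w (h * m) * w (k * l)) =
          ((q : ℂ) * w m) * ((q : ℂ) * w l) := by
        rw [← hauto m, ← hauto l, Finset.sum_mul_sum]
        exact Finset.sum_congr rfl fun h _ => Finset.sum_congr rfl fun k _ => by ring
      rw [h2]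
      simp only [hw]
      split_ifs <;> ring
    simp only [e, ← Finset.mul_sum, Finset.sum_add_distrib, Finset.sum_sub_distrib,
      Finset.sum_ite_eq', Finset.mem_univ, if_true, ← hT]
    simp only [Finset.sum_ite_irrel, Finset.sum_const_zero, Finset.sum_ite_eq', Finset.mem_univ,
      if_true, hFm, hFl, OneMemClass.coe_one, ← hS]
    ring
  -- second vector
  have e2 : ∑ m, ∑ l, F m l * ∑ h, ∑ k, w (h * k) * w (h * m * (k * l)) =
      (q : ℂ) ^ 2 * ((q : ℂ) * D - T) := by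
    have e : ∀ m l, F m l * ∑ h, ∑ k, w (h * k) * w (h * m * (k * l)) =
        (q : ℂ) ^ 2 * ((q : ℂ) * (if l = m⁻¹ then F m l else 0) - F m l) := by
      intro m l
      have h2 : ∀ h : H, ∑ k, w (h * k) * w (h * m * (k * l)) = (q : ℂ) * w (m * l) := by
        intro h
        rw [← hauto (m * l)]
        refine Fintype.sum_equiv (Equiv.mulLeft h) _ _ fun k => ?_
        simp only [Equiv.coe_mulLeft]
        congr 2
        rw [mul_assoc, mul_assoc, ← mul_assoc m k l, hcomm m k, mul_assoc]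
      rw [Finset.sum_congr rfl fun h _ => h2 h, Finset.sum_const, Finset.card_univ, nsmul_eq_mul,
        hqc]
      simp only [hw, mul_eq_one_iff_inv_eq (a := m) (b := l)]
      rcases eq_or_ne l m⁻¹ with h | h
      · simp [h]; ring
      · simp [h, Ne.symm h]; ring
    simp only [e, ← Finset.mul_sum, Finset.sum_sub_distrib, Finset.sum_ite_eq',
      Finset.mem_univ, if_true, ← hT]
    simp [hF, hD]
  have n1 := hnn fun h k => (q * (if h = 1 then 1 else 0) - 1) * (q * (if k = 1 then 1 else 0) - 1)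
  have n2 := hnn fun h k => q * (if h * k = 1 then 1 else 0) - 1
  simp only [Complex.ofReal_mul, ← hwr] at n1 n2
  rw [e1, ← Complex.ofReal_pow, Complex.re_ofReal_mul] at n1
  rw [e2, ← Complex.ofReal_pow, Complex.re_ofReal_mul] at n2
  have hqpos : 0 < q := by rw [hq]; exact_mod_cast Nat.card_pos
  have m1 := (mul_nonneg_iff_of_pos_left (pow_pos hqpos 2)).1 n1
  have m2 := (mul_nonneg_iff_of_pos_left (pow_pos hqpos 2)).1 n2
  have r1 : ((q : ℂ) ^ 2 * χ 1 - 2 * (q : ℂ) * S + T).re = q ^ 2 * (χ 1).re - 2 * q * S.re + T.re := by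
    simp [Complex.mul_re, sq]
  have r2 : ((q : ℂ) * D - T).re = q * D.re - T.re := by simp [Complex.mul_re]
  simp only [Complex.ofReal_pow] at m1
  rw [r1] at m1
  rw [r2] at m2
  refine le_of_mul_le_mul_left ?_ hqpos
  nlinarith

end Cfsg.Agent.ExtClosedTwo
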