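import Cfsg.Agent.ExtClosedTwo.Generic
import Cfsg.Agent.Invol.ZStar

/-!
# Extremely closed abelian 2-subgroups: `G = N(H) O(G)`
-/

namespace Cfsg.Agent.ExtClosedTwo

open Subgroup
open Cfsg.Agent

universe u

variable {G : Type u} [Group G] [Finite G] {H : Subgroup G}

/-- An isolated involution in `H`: reduce to its centraliser. -/
theorem of_isolated {t : G} (hiso : Cfsg.IsIsolatedInvolution t)
    (hHC : H ≤ centralizer ({t} : Set G))
    (ih : normalizer ((H.subgroupOf (centralizer ({t} : Set G)) :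
        Subgroup ↥(centralizer ({t} : Set G))) : Set ↥(centralizer ({t} : Set G))) ⊔
      Cfsg.oddCore ↥(centralizer ({t} : Set G)) = ⊤) :
    normalizer (H : Set G) ⊔ Cfsg.oddCore G = ⊤ := by
  set C := centralizer ({t} : Set G) with hC
  set O := Cfsg.oddCore G with hO
  set f := QuotientGroup.mk' O with hf
  have ht2 : t * t = 1 := by rw [← pow_two, ← hiso.1, pow_orderOf_eq_one]
  have hti : t⁻¹ = t := inv_eq_of_mul_eq_one_right ht2
  have hdec : ∀ a : G, ∃ o ∈ O, o * a ∈ C := by
    intro a
    set u := t * (a * t * a⁻¹) with hu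
    have huO : u ∈ O := by
      have := Invol.zstar hiso a
      simpa [hu, mul_assoc, hti] using this
    have hodd : Odd (orderOf u) := Invol.isolated_odd_orderOf_mul hiso (IsConj.refl t)
      (isConj_iff.2 ⟨a, rfl⟩)
    obtain ⟨j, hj⟩ := hodd
    refine ⟨u ^ (j + 1), pow_mem huO _, mem_centralizer_singleton_iff.2 ?_⟩
    have he2 : u ^ (j + 1) * u ^ (j + 1) = u := by
      rw [← pow_add, show j + 1 + (j + 1) = orderOf u + 1 by omega, pow_succ, pow_orderOf_eq_one,
        one_mul]
    have hinv : t * u * t = u⁻¹ := by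
      rw [hu, mul_inv_rev, hti, ← mul_assoc t t, ht2, one_mul]
      simp [mul_assoc, hti]
    have htu : t * u ^ (j + 1) * t = (u ^ (j + 1))⁻¹ := by
      rw [← inv_pow, ← hinv]
      nth_rw 2 [← hti]
      rw [← conj_pow, hti]
    set e := u ^ (j + 1) with he
    have h1 : e⁻¹ * t * e = a * t * a⁻¹ := by
      calc e⁻¹ * t * e = t * e * (t * t) * e := by rw [← htu]; group
        _ = t * (e * e) := by rw [ht2]; group
        _ = _ := by rw [he2, hu, ← mul_assoc, ht2, one_mul]
    calc e * a * t = e * (a * t * a⁻¹) * a := by group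
      _ = t * (e * a) := by rw [← h1]; group
  exact of_factor hHC hdec ih

theorem main_below : ∀ (n : ℕ) (G : Type u) [Group G] [Finite G], Nat.card G < n →
    ∀ H : Subgroup G, IsPGroup 2 H → IsMulCommutative H → Cfsg.IsExtremelyClosed H →
      normalizer (H : Set G) ⊔ Cfsg.oddCore G = ⊤ := by
  intro n
  induction n with
  | zero => intro G _ _ h; omega
  | succ n ih =>
    intro G _ _ hlt H h2 hab hec
    have hsub : ∀ L : Subgroup G, H ≤ L → L ≠ ⊤ →
        normalizer ((H.subgroupOf L : Subgroup L) : Set L) ⊔ Cfsg.oddCore L = ⊤ := by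
      intro L hHL hne
      refine ih L (by have := Core.card_lt_of_ne_top hne; omega) _ h2.comap_subtype ?_
        (restrict hec hHL)
      exact ⟨⟨fun a b => Subtype.ext (Subtype.ext (congrArg (Subtype.val : H → G)
        (hab.is_comm.comm ⟨_, mem_subgroupOf.1 a.2⟩ ⟨_, mem_subgroupOf.1 b.2⟩)))⟩⟩
    rcases eq_or_ne H ⊥ with rfl | hne
    · rw [show normalizer ((⊥ : Subgroup G) : Set G) = ⊤ from
        normalizer_eq_top_iff.2 inferInstance, top_sup_eq]
    by_cases hm : ∀ h ∈ H, h ≠ 1 → ∃ g : G, g * h * g⁻¹ ∈ H ∧ g * h * g⁻¹ ≠ h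
    · have hmulti := hm
      have hq4 : 4 ≤ Nat.card H := by
        set q := Nat.card H with hqdef
        classical
        have := Fintype.ofFinite H
        obtain ⟨h, hh, hh1⟩ := (ne_bot_iff_exists_ne_one.1 hne : ∃ h : H, h ≠ 1) |> fun ⟨h, h'⟩ =>
          (⟨h, h.2, fun e => h' (Subtype.ext e)⟩ : ∃ h, h ∈ H ∧ h ≠ 1)
        obtain ⟨g, hg, hgne⟩ := hmulti h hh hh1
        obtain ⟨k, hk⟩ := IsPGroup.iff_card.1 h2
        have h3 : 3 ≤ q := by
          have hc : ({1, ⟨h, hh⟩, ⟨_, hg⟩} : Finset H).card = 3 := by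
            rw [Finset.card_eq_three]
            refine ⟨_, _, _, ?_, ?_, ?_, rfl⟩
            · exact fun e => hh1 (congrArg Subtype.val e).symm
            · exact fun e => hh1 (conj_eq_one_iff.1 (congrArg Subtype.val e).symm)
            · exact fun e => hgne (congrArg Subtype.val e).symm
          rw [hqdef, Nat.card_eq_fintype_card, ← hc]
          exact Finset.card_le_univ _
        rw [← hqdef] at hk
        rcases k with _ | _ | k
        · simp at hk; omega
        · simp at hk; omega
        · rw [hk, pow_succ, pow_succ]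
          have := Nat.one_le_two_pow (n := k)
          omega
      obtain ⟨L, hLn, hLtop, hHL⟩ := exists_normal h2 hab hec hsub hne hm (Or.inl hq4)
      exact of_normal h2 hab hec hHL (hsub L hHL hLtop)
    push Not at hm
    obtain ⟨h, hh, hh1, hs⟩ := hm
    obtain ⟨t, htH, hiso⟩ := exists_isolated h2 hab hec hh hh1 hs
    have hHC : H ≤ centralizer ({t} : Set G) := fun y hy => mem_centralizer_singleton_iff.2
      (congrArg (Subtype.val : H → G) (hab.is_comm.comm ⟨y, hy⟩ ⟨t, htH⟩))
    by_cases hC : centralizer ({t} : Set G) = ⊤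
    swap
    · exact of_isolated hiso hHC (hsub _ hHC hC)
    have htc : t ∈ center G := mem_center_iff.2 fun g =>
      mem_centralizer_singleton_iff.1 (hC ▸ mem_top g)
    refine of_central hiso.1 htH htc fun {hZn} => ?_
    have hker : (QuotientGroup.mk' (zpowers t)).ker ≤ H := by
      rw [QuotientGroup.ker_mk']; exact zpowers_le.2 htH
    have hne' : zpowers t ≠ ⊥ := fun e => by
      have h1 := hiso.1
      rw [← Nat.card_zpowers, e, card_bot] at h1
      omega
    refine ih _ (by have := Core.card_quotient_lt hne'; omega) _ (h2.map _) ?_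
      (map_quotient hec (QuotientGroup.mk'_surjective _) hker)
    refine ⟨⟨?_⟩⟩
    rintro ⟨_, x, hx, rfl⟩ ⟨_, y, hy, rfl⟩
    refine Subtype.ext ?_
    simp only [Subgroup.coe_mul, ← map_mul]
    exact congrArg _ (congrArg (Subtype.val : H → G) (hab.is_comm.comm ⟨x, hx⟩ ⟨y, hy⟩))

theorem main (H : Subgroup G) (h2 : IsPGroup 2 H) (hab : IsMulCommutative H)
    (hec : Cfsg.IsExtremelyClosed H) : normalizer (H : Set G) ⊔ Cfsg.oddCore G = ⊤ :=
  main_below (Nat.card G + 1) G (Nat.lt_succ_self _) H h2 hab hec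

end Cfsg.Agent.ExtClosedTwo
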