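import Cfsg.Agent.ExtClosedTwo.Generic
import Cfsg.Agent.Coprime.Basic

/-!
# Extremely closed abelian p-subgroups, p odd: `G = N(H) O_{p'}(G)`

If `z ∈ H` has order `p` and no other conjugate in `H`, then a principal block character is
multiplicative on `⟨z⟩`, so vanishes at `z` or has `z` central modulo its kernel.
-/

namespace Cfsg.Agent.ExtClosedTwo

open Subgroup
open Cfsg.Agent
open scoped ComplexConjugate

universe u

variable {G : Type u} [Group G] [Finite G] {H : Subgroup G} {p : ℕ} [hp : Fact p.Prime]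

/-- A sum of `k` character values that is `k χ(1)` has all terms `χ(1)`. -/
theorem eq_one_of_sum {χ : G → ℂ} (hc : Cfsg.IsCharacter G χ) {ι : Type*} [Fintype ι] (g : ι → G)
    (h : ∑ i, χ (g i) = (Fintype.card ι : ℂ) * χ 1) (i : ι) : χ (g i) = χ 1 := by
  obtain ⟨n, hn⟩ := Char.IsChar.degree hc
  have hle : ∀ y, (χ y).re ≤ (χ 1).re := fun y =>
    (Complex.re_le_norm _).trans (Char.IsChar.norm_le hc y)
  have hre : ∑ i, ((χ 1).re - (χ (g i)).re) = 0 := by
    rw [Finset.sum_sub_distrib, Finset.sum_const, nsmul_eq_mul, ← Complex.re_sum, h, hn,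
      Finset.card_univ]
    simp
  have heq := (Finset.sum_eq_zero_iff_of_nonneg fun y _ => sub_nonneg.2 (hle _)).1 hre i
    (Finset.mem_univ i)
  have hxn := Char.IsChar.norm_le hc (g i)
  rw [hn] at heq hxn ⊢
  simp only [Complex.natCast_re] at heq hxn
  have hre' : (χ (g i)).re = n := by linarith
  have hsq := Complex.sq_norm (χ (g i))
  rw [Complex.normSq_apply, hre'] at hsq
  have him : (χ (g i)).im = 0 := by nlinarith [norm_nonneg (χ (g i))]
  exact Complex.ext (by simpa using hre') (by simpa using him)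

/-- The squares of the degrees of the characters trivial on `N` add up to at most `|G : N|`. -/
theorem sum_sq_kill_le (N : Subgroup G)
    [DecidablePred fun χ : Cfsg.IrrCharacter G => ∀ x ∈ N, (χ : G → ℂ) x = (χ : G → ℂ) 1] :
    ∑ χ ∈ Finset.univ.filter (fun χ : Cfsg.IrrCharacter G =>
        ∀ x ∈ N, (χ : G → ℂ) x = (χ : G → ℂ) 1), Cfsg.charDegree (χ : G → ℂ) ^ 2 ≤ N.index := by
  classical
  have := Fintype.ofFinite G
  choose d hd using fun χ : Cfsg.IrrCharacter G =>
    exists_natCast_mul (Char.IsIrr.isCharacter χ.2) N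
  set n : Cfsg.IrrCharacter G → ℕ := fun χ => Cfsg.charDegree (χ : G → ℂ) with hn
  have hn1 : ∀ χ : Cfsg.IrrCharacter G, (χ : G → ℂ) 1 = (n χ : ℂ) := fun χ =>
    (CharArith.irr_degree_spec χ).1
  have h1 : Nat.card N * ∑ χ : Cfsg.IrrCharacter G, n χ * d χ = Nat.card G := by
    have h2 : ∑ x : N, ∑ χ : Cfsg.IrrCharacter G, (χ : G → ℂ) 1 * (χ : G → ℂ) x =
        (Nat.card G : ℂ) := by
      rw [Finset.sum_eq_single (1 : N)]
      · rw [Char.regular_eq_sum, OneMemClass.coe_one, if_pos rfl]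
      · intro x _ hx
        rw [Char.regular_eq_sum, if_neg]
        exact fun e => hx (Subtype.ext e)
      · exact fun h => absurd (Finset.mem_univ _) h
    rw [Finset.sum_comm] at h2
    simp only [← Finset.mul_sum, hd, hn1] at h2
    have h3 : ((Nat.card N * ∑ χ : Cfsg.IrrCharacter G, n χ * d χ : ℕ) : ℂ) =
        (Nat.card G : ℂ) := by
      rw [← h2]
      push_cast
      rw [Finset.mul_sum]
      exact Finset.sum_congr rfl fun χ _ => by ring
    exact_mod_cast h3
  rw [← card_mul_index N] at h1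
  rw [← Nat.eq_of_mul_eq_mul_left Nat.card_pos h1]
  refine le_trans (Finset.sum_le_sum fun χ hχ => ?_)
    (Finset.sum_le_univ_sum_of_nonneg fun _ => Nat.zero_le _)
  have hker := (Finset.mem_filter.1 hχ).2
  have hd' : ∑ x : N, (χ : G → ℂ) x = ((Nat.card N * n χ : ℕ) : ℂ) := by
    rw [Finset.sum_congr rfl fun x : N => fun _ => hker x x.2, Finset.sum_const, Finset.card_univ,
      nsmul_eq_mul, hn1, Nat.card_eq_fintype_card]
    push_cast
    rfl
  have := (hd χ).symm.trans hd'
  rw [Nat.cast_inj] at this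
  rw [Nat.eq_of_mul_eq_mul_left Nat.card_pos this, sq]

/-- An element of order `p` of `H` with no other conjugate in `H` is central modulo `O_{p'}`. -/
theorem zstar_single (hodd : p ≠ 2) (h2 : IsPGroup p H) (hab : IsMulCommutative H)
    (hec : Cfsg.IsExtremelyClosed H)
    (ih : ∀ L : Subgroup G, H ≤ L → L ≠ ⊤ →
      normalizer ((H.subgroupOf L : Subgroup L) : Set L) ⊔ Cfsg.pPrimeCore p L = ⊤)
    {z : G} (hz : z ∈ H) (ho : orderOf z = p)
    (hs : ∀ g : G, g * z * g⁻¹ ∈ H → g * z * g⁻¹ = z) (hzc : z ∉ center G) (a : G) :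
    a * z * a⁻¹ * z⁻¹ ∈ Cfsg.pPrimeCore p G := by
  classical
  have := Fintype.ofFinite G
  have hp3 : 3 ≤ p := by have := hp.out.two_le; omega
  choose R v hv hn hR hHR hfix hRK using exists_twist h2 hab hec
  have hconj : ∀ a : G, a * z * a⁻¹ = v a * z * (v a)⁻¹ := fun a => by
    have h1 := hs ((v a)⁻¹ * a) ((mem_normalizer_iff.1 (hn a) z).1 hz)
    calc a * z * a⁻¹ = v a * ((v a)⁻¹ * a * z * ((v a)⁻¹ * a)⁻¹) * (v a)⁻¹ := by group
      _ = _ := by rw [h1]
  have hcR : ∀ a : G, a * z * a⁻¹ * z⁻¹ ∈ R a := fun a => by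
    have h1 := (mem_normalizer_iff.1 (hHR a hz) _).1 (inv_mem (hv a))
    rw [hconj]
    simpa [mul_assoc] using mul_mem (hv a) h1
  have hpz : ∀ i : ℕ, ¬ p ∣ i → centralizer ({z ^ i} : Set G) ≠ ⊤ := by
    intro i hi htop
    refine hzc ?_
    obtain ⟨j, hj⟩ := exists_pow_eq_self_of_coprime (x := z) (n := i)
      (ho ▸ (hp.out.coprime_iff_not_dvd.2 hi).symm)
    rw [← hj]
    exact pow_mem (mem_center_iff.2 fun g =>
      mem_centralizer_singleton_iff.1 (htop ▸ mem_top g)) _
  obtain ⟨M, hM⟩ := Blocks.exists_isPModular p hp.out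
  set B := Cfsg.principalBlock M G with hB
  have hmul : ∀ χ ∈ B, ∀ i : ℕ, ¬ p ∣ i + 1 → (χ : G → ℂ) 1 * (χ : G → ℂ) (z ^ (i + 1)) =
      (χ : G → ℂ) z * (χ : G → ℂ) (z ^ i) := by
    intro χ hχ i hi
    have h1 := CharArith.classMult χ.2 z (z ^ i)
    rw [Finset.sum_congr rfl fun a _ => show (χ : G → ℂ) (a * z * a⁻¹ * z ^ i) =
      (χ : G → ℂ) (z ^ (i + 1)) by
        rw [← value_eq h2 hab ih (hR a) (hHR a) (hfix a) hM hχ (hcR a) (pow_mem hz _) (hpz _ hi),
          pow_succ', ← mul_assoc, inv_mul_cancel_right],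
      Finset.sum_const, Finset.card_univ, nsmul_eq_mul, ← Nat.card_eq_fintype_card] at h1
    refine mul_left_cancel₀ (Char.card_ne_zero (G := G)) ?_
    linear_combination h1
  have hker : ∀ χ ∈ B, (χ : G → ℂ) z ≠ 0 →
      ∀ a, (χ : G → ℂ) (a * z * a⁻¹ * z⁻¹) = (χ : G → ℂ) 1 := by
    intro χ hχ hne a
    obtain ⟨n, hn0, hn'⟩ := Char.IsIrr.degree χ.2
    have hpow : ∀ i, i + 2 ≤ p →
        (χ : G → ℂ) (z ^ (i + 1)) * (n : ℂ) ^ i = (χ : G → ℂ) z ^ (i + 1) := by
      intro i
      induction i with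
      | zero => intro _; simp
      | succ i ih' =>
        intro hi
        have h1 := hmul χ hχ (i + 1) (Nat.not_dvd_of_pos_of_lt (by omega) (by omega))
        rw [hn'] at h1
        calc (χ : G → ℂ) (z ^ (i + 1 + 1)) * (n : ℂ) ^ (i + 1)
            = (n : ℂ) * (χ : G → ℂ) (z ^ (i + 1 + 1)) * (n : ℂ) ^ i := by ring
          _ = (χ : G → ℂ) z * ((χ : G → ℂ) (z ^ (i + 1)) * (n : ℂ) ^ i) := by rw [h1]; ring
          _ = _ := by rw [ih' (by omega)]; ring
    have h1 := hpow (p - 2) (by omega)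
    have hzi : z ^ (p - 2 + 1) = z⁻¹ := by
      refine eq_inv_of_mul_eq_one_left ?_
      rw [← pow_succ, show p - 2 + 1 + 1 = orderOf z by omega, pow_orderOf_eq_one]
    have hinv := Char.IsChar.inv_eq_conj (Char.IsIrr.isCharacter χ.2) z
    rw [hzi, hinv] at h1
    have h2' := congrArg (fun w : ℂ => ‖w‖) h1
    simp only [norm_mul, norm_pow, Complex.norm_conj, Complex.norm_natCast] at h2'
    rw [pow_succ] at h2'
    have hnorm : ‖(χ : G → ℂ) z‖ = n := by
      have h4 : (n : ℝ) ^ (p - 2) = ‖(χ : G → ℂ) z‖ ^ (p - 2) :=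
        mul_left_cancel₀ (norm_ne_zero_iff.2 hne) (h2'.trans (mul_comm _ _))
      exact ((pow_left_inj₀ (by positivity) (norm_nonneg _) (by omega)).1 h4).symm
    have h5 := CharArith.classMult χ.2 z z⁻¹
    rw [hinv, mul_assoc, Complex.mul_conj, Complex.normSq_eq_norm_sq, hnorm, hn'] at h5
    have h6 : ∑ b : G, (χ : G → ℂ) (b * z * b⁻¹ * z⁻¹) =
        (Fintype.card G : ℂ) * (χ : G → ℂ) 1 := by
      refine mul_left_cancel₀ (Nat.cast_ne_zero.2 hn0.ne' : (n : ℂ) ≠ 0) (h5.trans ?_)
      rw [hn', Nat.card_eq_fintype_card]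
      push_cast
      ring
    exact eq_one_of_sum (Char.IsIrr.isCharacter χ.2) _ h6 a
  set M₀ := normalClosure (Set.range fun a : G => a * z * a⁻¹ * z⁻¹) with hM₀
  have hkill : ∀ χ ∈ B, (χ : G → ℂ) z ≠ 0 → ∀ x ∈ M₀, (χ : G → ℂ) x = (χ : G → ℂ) 1 := by
    intro χ hχ hne x hx
    have hle : M₀ ≤ Char.kerSubgroup (Char.IsIrr.isCharacter χ.2) := by
      refine normalClosure_le_normal ?_
      rintro _ ⟨b, rfl⟩
      exact hker χ hχ hne b
    exact hle hx
  -- p-subgroups centralising `z` are no bigger than the index of `M₀`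
  have hbound : ∀ S : Subgroup G, IsPGroup p S → S ≤ centralizer ({z} : Set G) →
      Nat.card S ≤ M₀.index := by
    intro S hS hSC
    have := Fintype.ofFinite ↥(centralizer ({z} : Set G))
    have h1 := card_le_degree_sq (G := ↥(centralizer ({z} : Set G))) hM
      (S.subgroupOf (centralizer ({z} : Set G))) hS.comap_subtype
    rw [Nat.card_congr (subgroupOfEquivOfLe hSC).toEquiv] at h1
    refine h1.trans (le_trans ?_ (sum_sq_kill_le M₀))
    have h3 := Blocks.principal_column_self hM (y := z) ⟨1, by rw [ho, pow_one]⟩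
    rw [finsum_mem_eq_finite_toFinset_sum _ (Set.toFinite (Cfsg.principalBlock M G))] at h3
    have h4 := congrArg Complex.re h3
    rw [Complex.re_sum, Complex.natCast_re] at h4
    rw [← Nat.cast_le (α := ℝ), ← h4, Nat.cast_sum]
    refine (Finset.sum_le_sum (g := fun χ : Cfsg.IrrCharacter G =>
      if ∀ x ∈ M₀, (χ : G → ℂ) x = (χ : G → ℂ) 1 then
        ((Cfsg.charDegree (χ : G → ℂ) ^ 2 : ℕ) : ℝ) else 0) fun χ hχ => ?_).trans ?_
    · have hχB : χ ∈ B := by simpa [hB] using hχ
      rw [Complex.mul_conj, Complex.ofReal_re]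
      rcases eq_or_ne ((χ : G → ℂ) z) 0 with h0 | h0
      · rw [h0, map_zero]; split_ifs <;> positivity
      · rw [if_pos (hkill χ hχB h0), Complex.normSq_eq_norm_sq, Nat.cast_pow]
        refine pow_le_pow_left₀ (norm_nonneg _) ?_ 2
        have := Char.IsChar.norm_le (Char.IsIrr.isCharacter χ.2) z
        rwa [(CharArith.irr_degree_spec χ).1, Complex.natCast_re] at this
    · rw [Finset.sum_filter]
      refine (Finset.sum_le_univ_sum_of_nonneg fun χ => ?_).trans (le_of_eq ?_)
      · split_ifs <;> positivity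
      · exact Finset.sum_congr rfl fun χ _ => by split_ifs <;> simp
  set O := Cfsg.pPrimeCore p G with hO
  have hgen : ∀ a : G, a * z * a⁻¹ * z⁻¹ ∈ M₀ := fun a => subset_normalClosure ⟨a, rfl⟩
  by_cases htop : M₀ ⊔ H = ⊤
  · -- `M₀` has order prime to `p`
    suffices hM₀p : ¬ p ∣ Nat.card M₀ from
      Core.le_pPrimeCore (hp.out.coprime_iff_not_dvd.2 hM₀p).symm (hgen a)
    have hHC : H ≤ centralizer ({z} : Set G) := fun y hy => mem_centralizer_singleton_iff.2
      (congrArg (Subtype.val : H → G) (hab.is_comm.comm ⟨y, hy⟩ ⟨z, hz⟩))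
    have hge := hbound H h2 hHC
    have hle : M₀.index ≤ Nat.card H := by
      have h1 := Core.card_sup_dvd_mul H M₀
      rw [sup_comm, htop, card_top, ← card_mul_index M₀, mul_comm (Nat.card H)] at h1
      exact Nat.le_of_dvd Nat.card_pos (Nat.dvd_of_mul_dvd_mul_left Nat.card_pos h1)
    have hMH : Nat.card M₀ = H.index := by
      have h1 := card_mul_index M₀
      rw [le_antisymm hle hge, ← card_mul_index H, mul_comm] at h1
      exact Nat.eq_of_mul_eq_mul_left Nat.card_pos h1
    obtain ⟨T, hT⟩ := h2.exists_le_sylow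
    rcases eq_or_lt_of_le hT with hTH | hlt
    · rw [hMH, hTH]; exact T.not_dvd_index
    · exfalso
      have : Group.IsNilpotent T := T.isPGroup'.isNilpotent
      obtain ⟨x, hx, hx'⟩ := SetLike.exists_of_lt
        (Group.normalizerCondition_of_isNilpotent (H.subgroupOf T)
          (lt_top_iff_ne_top.2 fun h => hlt.2 (subgroupOf_eq_top.1 h)))
      rw [mem_subgroupOf] at hx'
      have hxN : (x : G) ∈ normalizer (H : Set G) := mem_normalizer_of_forall fun y hy =>
        mem_subgroupOf.1 ((mem_normalizer_iff.1 hx ⟨y, hT hy⟩).1 (mem_subgroupOf.2 hy))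
      have hxz : (x : G) ∈ centralizer ({z} : Set G) := mem_centralizer_singleton_iff.2
        (mul_inv_eq_iff_eq_mul.1 (hs _ ((mem_normalizer_iff.1 hxN z).1 hz)))
      have hSp : IsPGroup p (H ⊔ zpowers (x : G) : Subgroup G) :=
        T.isPGroup'.to_le (sup_le hT (zpowers_le.2 x.2))
      have h5 := hbound _ hSp (sup_le hHC (zpowers_le.2 hxz))
      exact hx' ((eq_of_le_of_card_ge le_sup_left (h5.trans hle)).ge
        (mem_sup_right (mem_zpowers _)))
  · -- `z` centralises `M₀` modulo `O`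
    set L := M₀ ⊔ H with hL
    set N := M₀.subgroupOf L with hN
    have hNn : N.Normal := (inferInstance : M₀.Normal).subgroupOf L
    set f := QuotientGroup.mk' O with hf
    have hcomm : ∀ m ∈ M₀, f (m * z * m⁻¹ * z⁻¹) = 1 := by
      intro m hm
      have hm' : (⟨m, mem_sup_left hm⟩ : L) ∈
          normalizer ((H.subgroupOf L : Subgroup L) : Set L) ⊔ Cfsg.pPrimeCore p L :=
        (ih L le_sup_right htop).symm ▸ mem_top _
      obtain ⟨n, hn', o, ho', hno⟩ := mem_sup_of_normal_right.1 hm'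
      set z' : L := ⟨z, mem_sup_right hz⟩ with hz'
      have hnz : n * z' * n⁻¹ = z' := Subtype.ext (hs n (mem_subgroupOf.1
        ((mem_normalizer_iff.1 hn' z').1 (mem_subgroupOf.2 hz))))
      set c : L := o * z' * o⁻¹ * z'⁻¹ with hc
      have hcO : c ∈ Cfsg.pPrimeCore p L := by
        have h1 := (inferInstance : (Cfsg.pPrimeCore p L).Normal).conj_mem _ (inv_mem ho') z'
        simpa [hc, mul_assoc] using mul_mem ho' h1
      set e : L := n * c * n⁻¹ with he
      have heq : e = (⟨m, mem_sup_left hm⟩ : L) * z' * (⟨m, mem_sup_left hm⟩ : L)⁻¹ * z'⁻¹ := by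
        rw [← hno]
        calc e = n * o * z' * o⁻¹ * n⁻¹ * (n * z' * n⁻¹)⁻¹ := by rw [he, hc]; group
          _ = _ := by rw [hnz]; group
      have heO : e ∈ Cfsg.pPrimeCore p L ⊓ N := by
        refine ⟨(inferInstance : (Cfsg.pPrimeCore p L).Normal).conj_mem _ hcO n, ?_⟩
        change e ∈ M₀.subgroupOf L
        rw [mem_subgroupOf, heq]
        exact hgen m
      rw [← Core.map_pPrimeCore_normal] at heO
      obtain ⟨e', he', hee⟩ := heO
      have he'' := mem_map_of_mem (subgroupOfEquivOfLe (le_sup_left : M₀ ≤ L)).toMonoidHom he'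
      rw [Core.map_pPrimeCore] at he''
      have h6 := mem_map_of_mem M₀.subtype he''
      rw [Core.map_pPrimeCore_normal] at h6
      refine (QuotientGroup.eq_one_iff _).2 ?_
      have h7 : ((e' : L) : G) = m * z * m⁻¹ * z⁻¹ := by
        rw [show (e' : L) = e from hee, heq]
        rfl
      rw [← h7]
      exact h6.1
    set c := a * z * a⁻¹ * z⁻¹ with hc
    have h1 : Commute (f c) (f z) := by
      have := hcomm c (hgen a)
      rw [map_mul, map_mul, map_mul, map_inv, map_inv, mul_inv_eq_one, mul_inv_eq_iff_eq_mul]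
        at this
      exact this
    have hzp : z ^ p = 1 := orderOf_dvd_iff_pow_eq_one.1 (dvd_of_eq ho)
    have hcp : f c ^ p = 1 := by
      have h3 : (f c * f z) ^ p = 1 := by
        rw [← map_mul, ← map_pow, hc, inv_mul_cancel_right, conj_pow, hzp,
          mul_one, mul_inv_cancel, map_one]
      rw [h1.mul_pow, ← map_pow f z, hzp, map_one, mul_one] at h3
      exact h3
    refine (QuotientGroup.eq_one_iff _).1 (eq_one_of_dvd (k := 1) (hR a)
      ((orderOf_map_dvd f c).trans ?_) (by rw [pow_one]; exact orderOf_dvd_of_pow_eq_one hcp))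
    exact orderOf_mk c (hcR a) ▸ orderOf_dvd_natCard (⟨c, hcR a⟩ : R a)

theorem main_odd_below : ∀ (n : ℕ) (G : Type u) [Group G] [Finite G], p ≠ 2 → Nat.card G < n →
    ∀ H : Subgroup G, IsPGroup p H → IsMulCommutative H → Cfsg.IsExtremelyClosed H →
      normalizer (H : Set G) ⊔ Cfsg.pPrimeCore p G = ⊤ := by
  intro n
  induction n with
  | zero => intro G _ _ _ h; omega
  | succ n ih =>
    intro G _ _ hodd hlt H h2 hab hec
    have hsub : ∀ L : Subgroup G, H ≤ L → L ≠ ⊤ →
        normalizer ((H.subgroupOf L : Subgroup L) : Set L) ⊔ Cfsg.pPrimeCore p L = ⊤ := by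
      intro L hHL hne
      refine ih L hodd (by have := Core.card_lt_of_ne_top hne; omega) _ h2.comap_subtype ?_
        (restrict hec hHL)
      exact ⟨⟨fun a b => Subtype.ext (Subtype.ext (congrArg (Subtype.val : H → G)
        (hab.is_comm.comm ⟨_, mem_subgroupOf.1 a.2⟩ ⟨_, mem_subgroupOf.1 b.2⟩)))⟩⟩
    rcases eq_or_ne H ⊥ with rfl | hne
    · rw [show normalizer ((⊥ : Subgroup G) : Set G) = ⊤ from
        normalizer_eq_top_iff.2 inferInstance, top_sup_eq]
    by_cases hm : ∀ h ∈ H, h ≠ 1 → ∃ g : G, g * h * g⁻¹ ∈ H ∧ g * h * g⁻¹ ≠ h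
    · have hq : 4 ≤ Nat.card H ∨ Nat.card H = 3 := by
        obtain ⟨k, hk⟩ := IsPGroup.iff_card.1 h2
        have h1 : 1 < Nat.card H := by
          have h4 : Nat.card H ≠ 1 := fun e => hne (card_eq_one.1 e)
          have := Nat.card_pos (α := H)
          omega
        have hk0 : k ≠ 0 := fun e => by rw [hk, e, pow_zero] at h1; omega
        have h3 := Nat.le_self_pow hk0 p
        have := hp.out.two_le
        omega
      obtain ⟨L, hLn, hLtop, hHL⟩ := exists_normal h2 hab hec hsub hne hm hq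
      exact of_normal h2 hab hec hHL (hsub L hHL hLtop)
    push Not at hm
    obtain ⟨h, hh, hh1, hs⟩ := hm
    obtain ⟨k, hk⟩ := IsPGroup.iff_orderOf.1 h2 ⟨h, hh⟩
    rw [orderOf_mk] at hk
    obtain ⟨j, rfl⟩ : ∃ j, k = j + 1 := Nat.exists_eq_succ_of_ne_zero (by
      rintro rfl
      exact hh1 (orderOf_eq_one_iff.1 (by rw [hk, pow_zero])))
    set z := h ^ p ^ j with hzdef
    have hz : z ∈ H := pow_mem hh _
    have ho : orderOf z = p := by
      have hp0 := hp.out.pos
      rw [hzdef, orderOf_pow' _ (by positivity), hk, pow_succ,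
        Nat.gcd_eq_right (Dvd.intro p rfl), Nat.mul_div_cancel_left _ (by positivity)]
    have hsz : ∀ g : G, g * z * g⁻¹ ∈ H → g * z * g⁻¹ = z := by
      intro g hg
      obtain ⟨R, v, hv, hn, hR, hHR, -, -⟩ := exists_twist h2 hab hec g
      have hnh : (v⁻¹ * g) * h * (v⁻¹ * g)⁻¹ = h := hs _ ((mem_normalizer_iff.1 hn h).1 hh)
      have hgz : g * z * g⁻¹ = v * z * v⁻¹ := by
        have h1 : (v⁻¹ * g) * z * (v⁻¹ * g)⁻¹ = z := by rw [hzdef, ← conj_pow, hnh]
        calc g * z * g⁻¹ = v * ((v⁻¹ * g) * z * (v⁻¹ * g)⁻¹) * v⁻¹ := by group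
          _ = _ := by rw [h1]
      rw [hgz] at hg ⊢
      have h2' : v * z * v⁻¹ * z⁻¹ ∈ R ⊓ H := by
        refine ⟨?_, (mul_mem hg (inv_mem hz) : v * z * v⁻¹ * z⁻¹ ∈ H)⟩
        have h1 := (mem_normalizer_iff.1 (hHR hz) _).1 (inv_mem hv)
        simpa [mul_assoc] using mul_mem hv h1
      rw [inf_eq_bot_of_odd h2 hR, mem_bot, mul_inv_eq_one] at h2'
      exact h2'
    have hz1 : zpowers z ≠ ⊥ := fun e => by
      rw [zpowers_eq_bot] at e
      rw [e, orderOf_one] at ho
      exact hp.out.ne_one ho.symm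
    by_cases hzc : z ∈ center G
    · refine of_central ho hz hzc fun {hZn} => ?_
      have hker : (QuotientGroup.mk' (zpowers z)).ker ≤ H := by
        rw [QuotientGroup.ker_mk']; exact zpowers_le.2 hz
      refine ih _ hodd (by have := Core.card_quotient_lt hz1; omega) _ (h2.map _) ?_
        (map_quotient hec (QuotientGroup.mk'_surjective _) hker)
      refine ⟨⟨?_⟩⟩
      rintro ⟨_, x, hx, rfl⟩ ⟨_, y, hy, rfl⟩
      refine Subtype.ext ?_
      simp only [Subgroup.coe_mul, ← map_mul]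
      exact congrArg _ (congrArg (Subtype.val : H → G) (hab.is_comm.comm ⟨x, hx⟩ ⟨y, hy⟩))
    have hHC : H ≤ centralizer ({z} : Set G) := fun y hy => mem_centralizer_singleton_iff.2
      (congrArg (Subtype.val : H → G) (hab.is_comm.comm ⟨y, hy⟩ ⟨z, hz⟩))
    have hC : centralizer ({z} : Set G) ≠ ⊤ := fun e => hzc (mem_center_iff.2 fun g =>
      mem_centralizer_singleton_iff.1 (e ▸ mem_top g))
    refine of_factor hHC (fun a => ?_) (hsub _ hHC hC)
    have hz' := zstar_single hodd h2 hab hec hsub hz ho hsz hzc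
    have hcop : (Nat.card (zpowers z)).Coprime (Nat.card (Cfsg.pPrimeCore p G)) := by
      rw [Nat.card_zpowers, ho]; exact Core.coprime_card_pPrimeCore.symm
    obtain ⟨o, ho', hoc⟩ := Coprime.exists_fixed_mem_leftCoset (A := zpowers z)
      (N := Cfsg.pPrimeCore p G) le_normalizer_of_normal hcop
      (Or.inl (Group.isSolvable_of_comm fun x y => ((mul_comm_of_mem_isMulCommutative
        (zpowers z) x.2 y.2) |> Subtype.ext))) (k := a) (fun x hx => by
        obtain ⟨i, rfl⟩ := mem_zpowers_iff.1 hx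
        set f := QuotientGroup.mk' (Cfsg.pPrimeCore p G) with hf
        refine (QuotientGroup.eq_one_iff _).1 ?_
        have h1 : Commute (f a) (f z) := by
          have := (QuotientGroup.eq_one_iff (N := Cfsg.pPrimeCore p G) _).2 (hz' a)
          change f (a * z * a⁻¹ * z⁻¹) = 1 at this
          rw [map_mul, map_mul, map_mul, map_inv, map_inv, mul_inv_eq_one,
            mul_inv_eq_iff_eq_mul] at this
          exact this
        change f (a⁻¹ * (z ^ i * a * (z ^ i)⁻¹)) = 1
        rw [map_mul, map_mul, map_mul, map_inv, map_inv, map_zpow, ← (h1.zpow_right i).eq,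
          mul_inv_cancel_right, inv_mul_cancel])
    refine ⟨a * o * a⁻¹, (inferInstance : (Cfsg.pPrimeCore p G).Normal).conj_mem o ho' a, ?_⟩
    rw [inv_mul_cancel_right]
    exact mem_centralizer_singleton_iff.2
      ((mem_centralizer_iff.1 hoc) z (mem_zpowers z)).symm

theorem main_odd (hodd : p ≠ 2) (H : Subgroup G) (h2 : IsPGroup p H) (hab : IsMulCommutative H)
    (hec : Cfsg.IsExtremelyClosed H) : normalizer (H : Set G) ⊔ Cfsg.pPrimeCore p G = ⊤ :=
  main_odd_below (Nat.card G + 1) G hodd (Nat.lt_succ_self _) H h2 hab hec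

end Cfsg.Agent.ExtClosedTwo
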